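import Cfsg.Agent.NormCyclic.Linked
import Cfsg.Agent.HalfTransP.Count
import Cfsg.Agent.S0508

/-!
# No linked involutions: dihedral Sylow 2-subgroups

If no root of an involution centralises another involution with a root, a simple group with `Hyp`
having some root has a dihedral Sylow `2`-subgroup, and is `PSL(2, q)` by Brauer–Suzuki–Wall.
-/

set_option autoImplicit false
set_option linter.style.haveILetI false
set_option linter.unusedSectionVars false

namespace CfsgLib.NormCyclic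

open Subgroup

universe u

variable {G : Type u} [Group G] [Finite G]

/-- No root of an involution centralises a second involution which has a root. -/
def NoLink (G : Type u) [Group G] : Prop :=
  ∀ a b t s : G, Root a t → Root b s → Commute a s → t = s

/-- An abelian 2-group with at most one involution is cyclic. -/
theorem isCyclic_of_two_roots {A : Subgroup G} (hA : IsPGroup 2 A)
    (hcomm : ∀ x ∈ A, ∀ y ∈ A, Commute x y) {z : G}
    (h : ∀ x ∈ A, x * x = 1 → x = 1 ∨ x = z) : IsCyclic A := by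
  classical
  haveI : Fintype A := Fintype.ofFinite A
  have key : ∀ k : ℕ, (Finset.univ.filter fun a : A => a ^ 2 ^ k = 1).card ≤ 2 ^ k := by
    intro k
    induction k with
    | zero =>
      refine (Finset.card_le_one.2 fun x hx y hy => ?_)
      simp only [Finset.mem_filter, pow_zero, pow_one] at hx hy
      rw [hx.2, hy.2]
    | succ k ih =>
      refine le_trans (Finset.card_le_mul_card_image
        (f := fun a : A => a * a) _ 2 fun a ha => ?_) ?_
      · obtain ⟨c, hc, rfl⟩ := Finset.mem_image.1 ha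
        refine le_trans (Finset.card_le_card
          (t := (Finset.univ.filter fun x : A => (x : G) = c ∨ (x : G) = z * c)) ?_) ?_
        · intro x hx
          simp only [Finset.mem_filter, Finset.mem_univ, true_and] at hx ⊢
          have hxc : (x : G) * x = c * c := congrArg Subtype.val hx.2
          have h1 : ((x : G) * (c : G)⁻¹) * ((x : G) * (c : G)⁻¹) = 1 := by
            rw [(hcomm _ (inv_mem c.2) x x.2).mul_mul_mul_comm, hxc]; group
          rcases h _ (mul_mem x.2 (inv_mem c.2)) h1 with e | e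
          · exact Or.inl (mul_inv_eq_one.1 e)
          · exact Or.inr (mul_inv_eq_iff_eq_mul.1 e)
        · rw [Finset.filter_or]
          refine le_trans (Finset.card_union_le _ _) (Nat.add_le_add (b := 1) (d := 1) ?_ ?_) <;>
            refine Finset.card_le_one.2 fun x hx y hy => Subtype.ext ?_ <;>
            simp only [Finset.mem_filter] at hx hy <;> rw [hx.2, hy.2]
      · rw [pow_succ', Nat.mul_le_mul_left_iff two_pos]
        refine le_trans (Finset.card_le_card ?_) ih
        intro x hx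
        obtain ⟨c, hc, rfl⟩ := Finset.mem_image.1 hx
        simp only [Finset.mem_filter, Finset.mem_univ, true_and] at hc ⊢
        rw [← pow_two, ← pow_mul]
        exact hc
  refine isCyclic_of_card_pow_eq_one_le fun n hn => ?_
  obtain ⟨k, m, hm, rfl⟩ := Nat.exists_eq_two_pow_mul_odd hn.ne'
  refine le_trans (Finset.card_le_card ?_) ((key k).trans (Nat.le_mul_of_pos_right _ hm.pos))
  intro x hx
  simp only [Finset.mem_filter, Finset.mem_univ, true_and] at hx ⊢
  obtain ⟨j, hj⟩ := (IsPGroup.iff_orderOf.1 hA) x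
  have h1 : orderOf (x ^ 2 ^ k) ∣ m := orderOf_dvd_of_pow_eq_one (by rw [← pow_mul, hx])
  have h2 : orderOf (x ^ 2 ^ k) ∣ 2 ^ j := hj ▸ orderOf_pow_dvd _
  exact orderOf_eq_one_iff.1 (Nat.eq_one_of_dvd_coprimes
    ((Nat.coprime_two_left.2 hm).pow_left j) h2 h1)

/-- A Sylow subgroup at a root of an involution, and a conjugate of that involution in it. -/
structure Base (G : Type u) [Group G] where
  /-- the Sylow subgroup -/
  T : Sylow 2 G
  /-- the involution -/
  z : G
  /-- the root -/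
  b : G
  /-- the conjugate -/
  q : G
  root : Root b z
  bT : b ∈ (T : Subgroup G)
  Tz : ∀ x ∈ (T : Subgroup G), Commute x z
  qT : q ∈ (T : Subgroup G)
  qconj : ∃ g : G, g * z * g⁻¹ = q
  qne : q ≠ z

theorem Hyp.exists_base (hG : Hyp G) [IsSimpleGroup G] (hna : ¬ IsMulCommutative G) {a t : G}
    (ha : Root a t) : Nonempty (Base G) := by
  have hp : IsPGroup 2 (zpowers a) := by
    intro x
    refine ⟨2, Subtype.ext ?_⟩
    rcases ha.mem_cases x.2 with e | e | e | e <;> show (x : G) ^ 2 ^ 2 = 1 <;> rw [e]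
    · exact one_pow _
    · exact ha.pow_four
    · rw [pow_two 2, pow_mul, pow_two t, ha.2.1, one_pow]
    · rw [inv_pow, show 2 ^ 2 = 4 by norm_num, ha.pow_four, inv_one]
  obtain ⟨S, haS, hSt⟩ := hG.exists_sylow_linked ha (zpowers a) hp (mem_zpowers a)
    (zpowers_le.2 (mem_centralizer_singleton_iff.2 ha.comm.eq))
  obtain ⟨g, hg, hne⟩ := exists_fused hna S ha.2
  exact ⟨⟨S, t, a, g * t * g⁻¹, ha, haS (mem_zpowers a),
    fun x hx => mem_centralizer_singleton_iff.1 (hSt hx), hg, ⟨g, rfl⟩, hne⟩⟩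

namespace Base

variable (D : Base G)

/-- The centraliser of the root in the Sylow subgroup. -/
def A : Subgroup G := (D.T : Subgroup G) ⊓ centralizer ({D.b} : Set G)

theorem mem_A {x : G} : x ∈ D.A ↔ x ∈ (D.T : Subgroup G) ∧ Commute x D.b :=
  and_congr_right fun _ => mem_centralizer_singleton_iff

theorem b_mem : D.b ∈ D.A := D.mem_A.2 ⟨D.bT, Commute.refl _⟩

theorem zT : D.z ∈ (D.T : Subgroup G) := D.root.1 ▸ mul_mem D.bT D.bT

theorem z_mem : D.z ∈ D.A := D.mem_A.2 ⟨D.zT, D.root.comm.symm⟩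

theorem q_inv : Inv D.q := by
  obtain ⟨g, hg⟩ := D.qconj
  exact hg ▸ D.root.2.conj g

theorem sq_eq (hN : NoLink G) {e w : G} (h : Root e w) (he : e ∈ (D.T : Subgroup G)) : w = D.z :=
  hN e D.b w D.z h D.root (D.Tz e he)

theorem q_inverts (hG : Hyp G) (hN : NoLink G) {e : G} (h : Root e D.z) :
    D.q * e * D.q⁻¹ = e⁻¹ := by
  refine (hG.conj_root h (D.Tz _ D.qT)).resolve_left fun p => ?_
  obtain ⟨g, hg⟩ := D.qconj
  exact D.qne (hN e (g * D.b * g⁻¹) D.z D.q h (hg ▸ D.root.conj g)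
    (mul_inv_eq_iff_eq_mul.1 p : Commute D.q e).symm).symm

theorem roots_commute (hG : Hyp G) (hN : NoLink G) {e e' : G} (h : Root e D.z) (h' : Root e' D.z) :
    Commute e e' := by
  rcases hG.conj_root h h'.comm with p | p
  · exact (mul_inv_eq_iff_eq_mul.1 p : Commute e' e).symm
  · have hee : Root (e * e') D.z := ⟨by
      have p' : e' * e = e⁻¹ * e' := mul_inv_eq_iff_eq_mul.1 p
      rw [show e * e' * (e * e') = e * (e' * e) * e' by group, p', mul_inv_cancel_left, h'.1], h.2⟩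
    have := D.q_inverts hG hN hee
    rw [show D.q * (e * e') * D.q⁻¹ = (D.q * e * D.q⁻¹) * (D.q * e' * D.q⁻¹) by group,
      D.q_inverts hG hN h, D.q_inverts hG hN h', mul_inv_rev] at this
    exact Commute.inv_inv_iff.1 this

theorem root_mem (hG : Hyp G) (hN : NoLink G) {e w : G} (h : Root e w)
    (he : e ∈ (D.T : Subgroup G)) : e ∈ D.A :=
  D.mem_A.2 ⟨he, D.roots_commute hG hN (D.sq_eq hN h he ▸ h) D.root⟩

theorem q_notMem (hG : Hyp G) (hN : NoLink G) : D.q ∉ D.A := fun h => by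
  have := D.q_inverts hG hN D.root
  rw [(D.mem_A.1 h).2.eq, mul_inv_cancel_right] at this
  exact D.root.ne_inv this.symm

theorem mem_or (hG : Hyp G) (hN : NoLink G) {x : G} (hx : x ∈ (D.T : Subgroup G)) :
    x ∈ D.A ∨ D.q * x ∈ D.A := by
  rcases hG.conj_root D.root (D.Tz x hx) with p | p
  · exact Or.inl (D.mem_A.2 ⟨hx, mul_inv_eq_iff_eq_mul.1 p⟩)
  · refine Or.inr (D.mem_A.2 ⟨mul_mem D.qT hx, mul_inv_eq_iff_eq_mul.1 ?_⟩)
    rw [show D.q * x * D.b * (D.q * x)⁻¹ = D.q * (x * D.b * x⁻¹) * D.q⁻¹ by group, p, ← conj_inv,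
      D.q_inverts hG hN D.root, inv_inv]

/-- An involution inverting the root fixes the involutions commuting with the root. -/
theorem fix_invol (hG : Hyp G) (hN : NoLink G) {c w : G} (hc : Inv c) (hcz : Commute c D.z)
    (hcb : ¬ Commute c D.b) (hw : Inv w) (hwb : Commute D.b w) : Commute c w := by
  rcases hG.conj_pair D.root hw hwb hcz with p | p
  · exact mul_inv_eq_iff_eq_mul.1 p
  · exfalso
    have hwz : Commute w D.z := (D.root.1 ▸ hwb.mul_left hwb : Commute D.z w).symm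
    have hr : Root (c * w) D.z := ⟨by
      nth_rw 2 [← hc.inv_eq]
      rw [show c * w * (c⁻¹ * w) = c * w * c⁻¹ * w by group, p, hwz.eq, mul_assoc, hw.1, mul_one],
      D.root.2⟩
    have h1 := (D.roots_commute hG hN hr D.root).eq
    rw [mul_assoc, ← hwb.eq, ← mul_assoc, ← mul_assoc] at h1
    exact hcb (mul_right_cancel h1)

/-- An involution inverting the root inverts all roots of `z`. -/
theorem invert_roots (hG : Hyp G) (hN : NoLink G) {c e : G} (hc : Inv c) (hcz : Commute c D.z)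
    (hcb : ¬ Commute c D.b) (he : Root e D.z) : c * e * c⁻¹ = e⁻¹ := by
  refine (hG.conj_root he hcz).resolve_left fun p => hcb ?_
  have hce : Commute c e := mul_inv_eq_iff_eq_mul.1 p
  have heb := D.roots_commute hG hN he D.root
  set w := e * D.b⁻¹ with hw
  have hw2 : w * w = 1 := by
    rw [hw, heb.symm.inv_left.mul_mul_mul_comm, he.1, ← mul_inv_rev, D.root.1, mul_inv_cancel]
  have hcw : Commute c w := by
    by_cases hw1 : w = 1
    · rw [hw1]; exact Commute.one_right c
    · exact D.fix_invol hG hN hc hcz hcb ⟨hw2, hw1⟩ (heb.symm.mul_right (Commute.refl _).inv_right)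
  have := hcw.inv_right.mul_right hce
  rwa [show w⁻¹ * e = D.b by rw [hw]; group] at this

/-- `q` inverts `A`. -/
theorem A_inverted (hG : Hyp G) (hN : NoLink G) {y : G} (hy : y ∈ D.A) :
    D.q * y * D.q⁻¹ = y⁻¹ := by
  obtain ⟨hyT, hyb⟩ := D.mem_A.1 hy
  rcases twoElt_cases (twoElt_of_mem D.T.2 hyT) with e | e | ⟨e₀, he₀, s₀, hs₀, hr₀⟩
  · simp [e]
  · rw [(D.fix_invol hG hN D.q_inv (D.Tz _ D.qT)
      (fun h => D.q_notMem hG hN (D.mem_A.2 ⟨D.qT, h⟩)) e hyb.symm).eq, mul_inv_cancel_right,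
      e.inv_eq]
  have hzy : D.z ∈ zpowers y := by
    have heT : e₀ ∈ (D.T : Subgroup G) := (zpowers_le.2 hyT) he₀
    exact D.sq_eq hN hr₀ heT ▸ hs₀
  have hconj := hG.conj_mem D.root.2 hzy (D.Tz _ D.qT)
  set x := D.q * y with hx
  have hxx : x * x ∈ zpowers y := by
    nth_rw 2 [hx]
    rw [hx, show D.q * y * (D.q * y) = D.q * y * D.q * y by group]
    nth_rw 2 [← D.q_inv.inv_eq]
    exact mul_mem hconj (mem_zpowers y)
  rcases twoElt_cases (twoElt_of_mem D.T.2 (mul_mem D.qT hyT)) with e | e | ⟨h, hh, w, -, hr⟩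
  · exfalso
    exact D.q_notMem hG hN (by rw [eq_inv_of_mul_eq_one_left e]; exact inv_mem hy)
  · refine eq_inv_of_mul_eq_one_left ?_
    rw [D.q_inv.inv_eq, show D.q * y * D.q * y = (D.q * y) * (D.q * y) by group, e.1]
  exfalso
  have hhT : h ∈ (D.T : Subgroup G) := (zpowers_le.2 (mul_mem D.qT hyT)) hh
  have hhz : Root h D.z := D.sq_eq hN hr hhT ▸ hr
  have hyA : zpowers y ≤ D.A := zpowers_le.2 hy
  obtain ⟨i, hi⟩ := mem_zpowers_iff.1 hh
  rw [← hx] at hi
  obtain ⟨m, hm | hm⟩ := Int.even_or_odd' i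
  · rw [hm, zpow_mul, zpow_two] at hi
    have hhy : Commute h y := by
      obtain ⟨j, hj⟩ := mem_zpowers_iff.1 (hi ▸ zpow_mem hxx m)
      exact hj ▸ (Commute.refl y).zpow_left j
    have hhx : Commute h x := hi ▸ ((Commute.refl x).mul_left (Commute.refl x)).zpow_left m
    have hhq : Commute h D.q := by
      have := hhx.mul_right hhy.inv_right
      rwa [hx, mul_inv_cancel_right] at this
    have := D.q_inverts hG hN hhz
    rw [hhq.symm.eq, mul_inv_cancel_right] at this
    exact hhz.ne_inv this.symm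
  · rw [hm, zpow_add_one, zpow_mul, zpow_two] at hi
    have hxA : x ∈ D.A := by
      rw [show x = ((x * x) ^ m)⁻¹ * h by rw [← hi, inv_mul_cancel_left]]
      exact mul_mem (inv_mem (hyA (zpow_mem hxx m))) (D.root_mem hG hN hr hhT)
    refine D.q_notMem hG hN ?_
    have := mul_mem hxA (inv_mem hy)
    rwa [hx, mul_inv_cancel_right] at this

theorem A_comm (hG : Hyp G) (hN : NoLink G) {x y : G} (hx : x ∈ D.A) (hy : y ∈ D.A) :
    Commute x y := by
  have := D.A_inverted hG hN (mul_mem hx hy)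
  rw [show D.q * (x * y) * D.q⁻¹ = (D.q * x * D.q⁻¹) * (D.q * y * D.q⁻¹) by group,
    D.A_inverted hG hN hx, D.A_inverted hG hN hy, mul_inv_rev] at this
  exact Commute.inv_inv_iff.1 this

theorem outside (hG : Hyp G) (hN : NoLink G) {x : G} (hx : x ∈ (D.T : Subgroup G)) (hxA : x ∉ D.A) :
    Inv x ∧ ∀ y ∈ D.A, x * y * x⁻¹ = y⁻¹ := by
  have ha := (D.mem_or hG hN hx).resolve_left hxA
  generalize hd : D.q * x = a at ha
  have hxa : x = D.q * a := by rw [← hd, ← mul_assoc, D.q_inv.1, one_mul]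
  refine ⟨⟨?_, fun e => hxA (e ▸ one_mem _)⟩, fun y hy => ?_⟩
  · rw [hxa]
    have := D.A_inverted hG hN ha
    rw [D.q_inv.inv_eq] at this
    rw [← mul_assoc, this, inv_mul_cancel]
  · rw [hxa, show D.q * a * y * (D.q * a)⁻¹ = D.q * (a * y * a⁻¹) * D.q⁻¹ by group,
      (D.A_comm hG hN ha hy).eq, mul_inv_cancel_right, D.A_inverted hG hN hy]

theorem outside_mul (hG : Hyp G) (hN : NoLink G) {x y : G} (hx : x ∈ (D.T : Subgroup G))
    (hxA : x ∉ D.A) (hy : y ∈ (D.T : Subgroup G)) (hyA : y ∉ D.A) : x * y ∈ D.A := by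
  have h1 := (D.mem_or hG hN hx).resolve_left hxA
  have h2 := (D.mem_or hG hN hy).resolve_left hyA
  have h4 : (D.q * x)⁻¹ * (D.q * y) ∈ D.A := mul_mem (inv_mem h1) h2
  rw [mul_inv_rev, (D.outside hG hN hx hxA).1.inv_eq, mul_assoc, inv_mul_cancel_left] at h4
  exact h4

theorem central (hG : Hyp G) (hN : NoLink G) {x w : G} (hx : x ∈ (D.T : Subgroup G))
    (hw : w ∈ D.A) (hw2 : w * w = 1) : Commute x w := by
  by_cases hxA : x ∈ D.A
  · exact D.A_comm hG hN hxA hw
  · have := (D.outside hG hN hx hxA).2 w hw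
    rw [inv_eq_of_mul_eq_one_right hw2] at this
    exact mul_inv_eq_iff_eq_mul.1 this

/-- Central involutions of `T` are pairwise not conjugate. -/
theorem not_conj (hG : Hyp G) (hN : NoLink G) {u u' g : G} (hu : u ∈ D.A) (hu2 : u * u = 1)
    (hu' : u' ∈ D.A) (h : g * u * g⁻¹ = u') : u = u' := by
  by_cases hu1 : u = 1
  · rw [← h, hu1, mul_one, mul_inv_cancel]
  haveI : Fact (Nat.Prime 2) := ⟨Nat.prime_two⟩
  have hcen : ∀ w ∈ D.A, w * w = 1 → w ∈ centralizer ((D.T : Subgroup G) : Set G) := fun w hw hw2 =>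
    mem_centralizer_iff.2 fun x hx => (D.central hG hN hx hw hw2).eq
  have hu'2 : u' * u' = 1 := by rw [← h, conj_mul, hu2, mul_one, mul_inv_cancel]
  obtain ⟨n, hn, he⟩ := D.T.conj_eq_normalizer_conj_of_mem_centralizer u g⁻¹ (hcen u hu hu2)
    (by rw [inv_inv, h]; exact hcen u' hu' hu'2)
  rw [inv_inv, h] at he
  -- move to `k = n⁻¹`
  obtain ⟨k, hk, hke⟩ : ∃ k ∈ normalizer ((D.T : Subgroup G) : Set G), k * u * k⁻¹ = u' :=
    ⟨n⁻¹, inv_mem hn, by rw [inv_inv, ← he]⟩
  have hkb : k * D.b * k⁻¹ ∈ (D.T : Subgroup G) := (mem_normalizer_iff.1 hk _).1 D.bT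
  have hkz : Commute k D.z := mul_inv_eq_iff_eq_mul.1 (D.sq_eq hN (D.root.conj k) hkb)
  rcases hG.conj_pair D.root ⟨hu2, hu1⟩ (D.mem_A.1 hu).2.symm hkz with p | p
  · exact p.symm.trans hke
  exfalso
  have huz : u * D.z ≠ u := fun e => D.root.2.2 (mul_left_cancel (e.trans (mul_one u).symm))
  obtain ⟨a, m, hm, he2⟩ := Nat.exists_eq_two_pow_mul_odd (orderOf_pos k).ne'
  -- odd powers of `k` move `u`
  have hodd : ∀ j : ℕ, k ^ (2 * j + 1) * u * (k ^ (2 * j + 1))⁻¹ = u * D.z := by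
    intro j
    induction j with
    | zero => rw [mul_zero, zero_add, pow_one, p]
    | succ j ih =>
      have hk2 : k * k * u * (k * k)⁻¹ = u := by
        rw [show k * k * u * (k * k)⁻¹ = k * (k * u * k⁻¹) * k⁻¹ by group, p, ← conj_mul, p, hkz.eq,
          mul_inv_cancel_right, mul_assoc, D.root.2.1, mul_one]
      rw [show 2 * (j + 1) + 1 = (2 * j + 1) + 2 by ring, pow_add, pow_two,
        show k ^ (2 * j + 1) * (k * k) * u * (k ^ (2 * j + 1) * (k * k))⁻¹ =
          k ^ (2 * j + 1) * (k * k * u * (k * k)⁻¹) * (k ^ (2 * j + 1))⁻¹ by group, hk2, ih]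
  obtain ⟨j, rfl⟩ := hm
  set c := k ^ (2 * j + 1) with hc
  have hcT : c ∈ (D.T : Subgroup G) := by
    have hcp : IsPGroup 2 (zpowers c) := by
      refine IsPGroup.of_card (n := a) ?_
      rw [Nat.card_zpowers, hc, orderOf_pow, he2, Nat.gcd_eq_right (dvd_mul_left _ _),
        Nat.mul_div_cancel _ (by omega)]
    have hsup := D.T.2.to_sup_of_normal_left' hcp
      (zpowers_le.2 (pow_mem hk _))
    exact D.T.3 hsup le_sup_left ▸ mem_sup_right (mem_zpowers c)
  exact huz ((hodd j).symm.trans (mul_inv_eq_iff_eq_mul.2 (D.central hG hN hcT hu hu2).eq))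

/-- Conjugates of `z`. -/
def Sq (r : G) : Prop := ∃ g : G, g * D.z * g⁻¹ = r

theorem sq_conj {r : G} (hr : D.Sq r) (g : G) : D.Sq (g * r * g⁻¹) := by
  obtain ⟨h, rfl⟩ := hr
  exact ⟨g * h, by group⟩

/-- Two commuting conjugates of `z` outside `A` differ by `z` at most. -/
theorem sq_pair (hG : Hyp G) (hN : NoLink G) {r w : G} (hr : r ∈ (D.T : Subgroup G)) (hrA : r ∉ D.A)
    (hw : w ∈ D.A) (hw2 : w * w = 1) (h1 : D.Sq r) (h2 : D.Sq (r * w)) : w = 1 ∨ w = D.z := by
  by_cases hw1 : w = 1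
  · exact Or.inl hw1
  right
  obtain ⟨g, hg⟩ := h1
  obtain ⟨g', hg'⟩ := h2
  set h := g * D.b * g⁻¹ with hh
  have hhr : Root h r := hg ▸ D.root.conj g
  have hrw : Commute r w := D.central hG hN hr hw hw2
  have hrz : Commute r D.z := D.Tz r hr
  have hwz : Commute w D.z := D.Tz w (D.mem_A.1 hw).1
  have hrinv := (D.outside hG hN hr hrA).1
  have hzh : D.z * h * D.z⁻¹ = h⁻¹ := by
    refine (hG.conj_root hhr hrz.symm).resolve_left fun p => hrA ?_
    rw [hN h D.b r D.z hhr D.root (mul_inv_eq_iff_eq_mul.1 p : Commute D.z h).symm]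
    exact D.z_mem
  have hr'h : r * w * h * (r * w)⁻¹ = h⁻¹ := by
    refine (hG.conj_root hhr ((Commute.refl r).mul_left hrw.symm)).resolve_left fun p => hw1 ?_
    have := hN h (g' * D.b * g'⁻¹) r (r * w) hhr (hg' ▸ D.root.conj g')
      (mul_inv_eq_iff_eq_mul.1 p : Commute (r * w) h).symm
    exact (mul_left_cancel (this.symm.trans (mul_one r).symm))
  set u := D.z * w with hu
  have huA : u ∈ D.A := mul_mem D.z_mem hw
  have hu2 : u * u = 1 := by
    rw [hu, hwz.mul_mul_mul_comm, D.root.2.1, hw2, one_mul]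
  have hhu : Commute u h := by
    have e1 : Commute (D.z * (r * w)) h := by
      refine mul_inv_eq_iff_eq_mul.1 ?_
      rw [show D.z * (r * w) * h * (D.z * (r * w))⁻¹ = D.z * (r * w * h * (r * w)⁻¹) * D.z⁻¹ by
        group, hr'h, ← conj_inv, hzh, inv_inv]
    have := (hhr.comm.symm.inv_left).mul_left e1
    rwa [← mul_assoc D.z r, ← hrz.eq, mul_assoc r, inv_mul_cancel_left] at this
  by_cases hu1 : u = 1
  · have := eq_inv_of_mul_eq_one_right hu1
    rwa [D.root.2.inv_eq] at this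
  exfalso
  have hur : Commute u r := (D.central hG hN hr huA hu2).symm
  obtain ⟨c, hc, hcm⟩ := exists_conj_into D.T
    (fun x hx => mem_centralizer_singleton_iff.2 (D.Tz x hx).eq)
    (zpowers (g⁻¹ * u * g))
    (IsPGroup.of_card (n := 1) (by
      rw [Nat.card_zpowers, pow_one]
      refine Inv.orderOf ?_
      simpa using (show Inv u from ⟨hu2, hu1⟩).conj g⁻¹))
    (zpowers_le.2 (mem_centralizer_singleton_iff.2 (by
      have := hur.eq
      rw [← hg] at this
      calc g⁻¹ * u * g * D.z = g⁻¹ * (u * (g * D.z * g⁻¹)) * g := by group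
        _ = g⁻¹ * (g * D.z * g⁻¹ * u) * g := by rw [this]
        _ = _ := by group)))
  set k := c * g⁻¹ with hk
  have hkr : k * r * k⁻¹ = D.z := by
    rw [hk, ← hg, show c * g⁻¹ * (g * D.z * g⁻¹) * (c * g⁻¹)⁻¹ = c * D.z * c⁻¹ by group, hc.eq,
      mul_inv_cancel_right]
  have hu' : k * u * k⁻¹ ∈ (D.T : Subgroup G) := by
    have := hcm _ (mem_zpowers _)
    rwa [hk, show c * g⁻¹ * u * (c * g⁻¹)⁻¹ = c * (g⁻¹ * u * g) * c⁻¹ by group]
  have he : Root (k * h * k⁻¹) D.z := hkr ▸ hhr.conj k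
  have hu'A : k * u * k⁻¹ ∈ D.A := by
    by_contra hA
    have hi := (D.outside hG hN hu' hA).1
    have hcb : ¬ Commute (k * u * k⁻¹) D.b := fun h => hA (D.mem_A.2 ⟨hu', h⟩)
    have h3 := D.invert_roots hG hN hi (D.Tz _ hu') hcb he
    rw [conj_mul, hhu.eq, ← conj_mul, mul_inv_cancel_right] at h3
    exact he.ne_inv h3.symm
  have huu := D.not_conj hG hN huA hu2 hu'A rfl
  have hzu : k * (r * u) * k⁻¹ = D.z * u := by rw [← conj_mul, hkr, ← huu]
  -- `r * u` is a conjugate of `r * w`, hence of `z`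
  have hru : D.Sq (r * u) := by
    have : r * u = D.b * (r * w) * D.b⁻¹ := by
      have h4 : r * D.b⁻¹ * r⁻¹ = D.b := by
        rw [← conj_inv, (D.outside hG hN hr hrA).2 _ D.b_mem, inv_inv]
      calc r * u = (r * D.z) * w := by rw [hu, mul_assoc]
        _ = (D.z * r) * w := by rw [hrz.eq]
        _ = D.b * (D.b * r) * w := by rw [← D.root.1, mul_assoc D.b D.b r]
        _ = D.b * (r * D.b⁻¹) * w := by rw [mul_inv_eq_iff_eq_mul.1 h4]
        _ = D.b * r * (D.b⁻¹ * w) := by group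
        _ = D.b * r * (w * D.b⁻¹) := by
          rw [(D.A_comm hG hN hw D.b_mem).symm.inv_left.eq]
        _ = _ := by group
    rw [this]
    exact D.sq_conj ⟨g', hg'⟩ _
  obtain ⟨g'', hg''⟩ := hru
  have hzuA : D.z * u ∈ D.A := mul_mem D.z_mem huA
  have := D.not_conj hG hN (g := k * g'') D.z_mem D.root.2.1 hzuA (by
    rw [show k * g'' * D.z * (k * g'')⁻¹ = k * (g'' * D.z * g''⁻¹) * k⁻¹ by group, hg'', hzu])
  exact hu1 (mul_left_cancel (this.symm.trans (mul_one D.z).symm))

/-- Every other conjugate in `T` of a central involution `v` is `r * (v * z)`, with `r` a conjugate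
of `z` outside `A`. -/
theorem conj_form (hG : Hyp G) (hN : NoLink G) {v g : G} (hv : v ∈ D.A) (hv2 : v * v = 1)
    (hg : g * v * g⁻¹ ∈ (D.T : Subgroup G)) (hne : g * v * g⁻¹ ≠ v) :
    ∃ r, D.Sq r ∧ r ∈ (D.T : Subgroup G) ∧ r ∉ D.A ∧ g * v * g⁻¹ = r * (v * D.z) := by
  classical
  set v' := g * v * g⁻¹ with hv'
  have hv'A : v' ∉ D.A := fun h => hne (D.not_conj hG hN hv hv2 h hv'.symm).symm
  set SC : G → Set G := fun c => {x | x ∈ (D.T : Subgroup G) ∧ Commute x c} with hSC
  have hSCA : ∀ c ∈ (D.T : Subgroup G), c ∉ D.A → ∀ x, x ∈ SC c → x ∈ D.A → x * x = 1 := by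
    intro c hc hcA x hx hxA
    have := (D.outside hG hN hc hcA).2 x hxA
    rw [hx.2.symm.eq, mul_inv_cancel_right] at this
    exact mul_eq_one_iff_eq_inv.2 this
  have hle : ∀ c c', c ∈ (D.T : Subgroup G) → c ∉ D.A → c' ∈ (D.T : Subgroup G) → c' ∉ D.A →
      (SC c).ncard ≤ (SC c').ncard := by
    intro c c' hc hcA hc' hc'A
    refine Set.ncard_le_ncard_of_injOn (fun x => if x ∈ D.A then x else c' * (c * x)) ?_ ?_
    · intro x hx
      split_ifs with hxA
      · exact ⟨hx.1, (D.central hG hN hc' hxA (hSCA c hc hcA x hx hxA)).symm⟩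
      · have hm := D.outside_mul hG hN hc hcA hx.1 hxA
        have hcx : c * x * (c * x) = 1 :=
          hSCA c hc hcA _ ⟨mul_mem hc hx.1, (Commute.refl c).mul_left hx.2⟩ hm
        exact ⟨mul_mem hc' (D.mem_A.1 hm).1,
          (Commute.refl c').mul_left (D.central hG hN hc' hm hcx).symm⟩
    · intro x hx y hy e
      dsimp only at e
      split_ifs at e with hxA hyA hyA
      · exact e
      · exfalso
        have hm := D.outside_mul hG hN hc hcA hy.1 hyA
        refine hc'A ?_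
        have h5 : x * (c * y)⁻¹ ∈ D.A := mul_mem hxA (inv_mem hm)
        rwa [e, mul_inv_cancel_right] at h5
      · exfalso
        have hm := D.outside_mul hG hN hc hcA hx.1 hxA
        refine hc'A ?_
        have h5 : y * (c * x)⁻¹ ∈ D.A := mul_mem hyA (inv_mem hm)
        rwa [← e, mul_inv_cancel_right] at h5
      · exact mul_left_cancel (mul_left_cancel e)
  have hTv : (D.T : Subgroup G) ≤ centralizer ({v} : Set G) := fun x hx =>
    mem_centralizer_singleton_iff.2 (D.central hG hN hx hv hv2).eq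
  set Dg := ((D.T : Subgroup G) ⊓ centralizer ({v'} : Set G)).map (MulAut.conj g⁻¹).toMonoidHom with hDg
  obtain ⟨c, hc, hcm⟩ := exists_conj_into D.T hTv Dg ((D.T.2.to_le inf_le_left).map _) (by
    rintro _ ⟨x, hx, rfl⟩
    refine mem_centralizer_singleton_iff.2 ?_
    show g⁻¹ * x * g⁻¹⁻¹ * v = v * (g⁻¹ * x * g⁻¹⁻¹)
    calc g⁻¹ * x * g⁻¹⁻¹ * v = g⁻¹ * (x * v') * g := by rw [hv']; group
      _ = g⁻¹ * (v' * x) * g := by rw [mem_centralizer_singleton_iff.1 hx.2]
      _ = _ := by rw [hv']; group)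
  set k := c * g⁻¹ with hk
  have hkT : ∀ x ∈ SC v', k * x * k⁻¹ ∈ (D.T : Subgroup G) := fun x hx => by
    have := hcm _ ⟨x, ⟨hx.1, mem_centralizer_singleton_iff.2 hx.2.eq⟩, rfl⟩
    rwa [hk, show c * g⁻¹ * x * (c * g⁻¹)⁻¹ = c * (g⁻¹ * x * g⁻¹⁻¹) * c⁻¹ by group]
  have hkv : k * v' * k⁻¹ = v := by
    rw [hk, hv', show c * g⁻¹ * (g * v * g⁻¹) * (c * g⁻¹)⁻¹ = c * v * c⁻¹ by group, hc.eq,
      mul_inv_cancel_right]
  set q' := k * D.z * k⁻¹ with hq'
  have hzS : D.z ∈ SC v' := ⟨D.zT, (D.Tz v' hg).symm⟩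
  have hq'T : q' ∈ (D.T : Subgroup G) := hkT _ hzS
  have hkz : ¬ Commute k D.z := fun h => by
    have h' : Commute k⁻¹ D.z := h.inv_left
    have hv1 : v ≠ 1 := fun e => hne (by rw [hv', e, mul_one, mul_inv_cancel])
    have e : k⁻¹ * v * k⁻¹⁻¹ = v' := by rw [← hkv]; group
    rcases hG.conj_pair D.root ⟨hv2, hv1⟩ (D.mem_A.1 hv).2.symm h' with p | p <;> rw [e] at p
    · exact hne p
    · exact hv'A (p ▸ mul_mem hv D.z_mem)
  have hq'A : q' ∉ D.A := fun h => by
    have := D.not_conj hG hN D.z_mem D.root.2.1 h hq'.symm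
    exact hkz (mul_inv_eq_iff_eq_mul.1 (hq'.symm.trans this.symm))
  have himg : (fun x => k * x * k⁻¹) '' SC v' = SC q' := by
    refine Set.eq_of_subset_of_ncard_le ?_ ?_ (Set.toFinite _)
    · rintro _ ⟨x, hx, rfl⟩
      refine ⟨hkT x hx, ?_⟩
      show k * x * k⁻¹ * q' = q' * (k * x * k⁻¹)
      rw [hq', conj_mul, conj_mul, (D.Tz x hx.1).eq]
    · rw [Set.ncard_image_of_injective _ (fun x y e => mul_left_cancel (mul_right_cancel e))]
      exact hle q' v' hq'T hq'A hg hv'A
  obtain ⟨r, hr, hrz⟩ : D.z ∈ (fun x => k * x * k⁻¹) '' SC v' := himg ▸ ⟨D.zT, (D.Tz q' hq'T).symm⟩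
  have hrz' : k * r * k⁻¹ = D.z := hrz
  have hrA : r ∉ D.A := fun h => by
    have h2 : r * r = 1 := hSCA v' hg hv'A r hr h
    have := D.not_conj hG hN h h2 D.z_mem hrz'
    rw [this] at hrz'
    exact hkz (mul_inv_eq_iff_eq_mul.1 hrz')
  refine ⟨r, ⟨k⁻¹, by rw [← hrz']; group⟩, hr.1, hrA, ?_⟩
  have hwA := D.outside_mul hG hN hg hv'A hr.1 hrA
  have hw2 : v' * r * (v' * r) = 1 :=
    hSCA v' hg hv'A _ ⟨mul_mem hg hr.1, (Commute.refl v').mul_left hr.2⟩ hwA
  have hwvz := D.not_conj hG hN hwA hw2 (mul_mem hv D.z_mem)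
    (by rw [← conj_mul, hkv, hrz'])
  rw [← hwvz, ← mul_assoc, hr.2.eq, mul_assoc, (D.outside hG hN hr.1 hrA).1.1, mul_one]

/-- The central involution is unique. -/
theorem invol_eq (hG : Hyp G) (hN : NoLink G) [IsSimpleGroup G] (hna : ¬ IsMulCommutative G)
    {v : G} (hv : v ∈ D.A) (hv2 : v * v = 1) : v = 1 ∨ v = D.z := by
  classical
  by_contra hcon
  push Not at hcon
  obtain ⟨hv1, hvz⟩ := hcon
  haveI : Fintype G := Fintype.ofFinite G
  -- squares in `A`
  let SQ : Subgroup G :=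
    { carrier := {x | ∃ a ∈ D.A, a * a = x}
      one_mem' := ⟨1, one_mem _, one_mul 1⟩
      mul_mem' := by
        rintro _ _ ⟨a, ha, rfl⟩ ⟨c, hc, rfl⟩
        exact ⟨a * c, mul_mem ha hc, (D.A_comm hG hN hc ha).mul_mul_mul_comm a c⟩
      inv_mem' := by
        rintro _ ⟨a, ha, rfl⟩
        exact ⟨a⁻¹, inv_mem ha, (mul_inv_rev a a).symm⟩ }
  have hSQA : SQ ≤ D.A := by
    rintro _ ⟨a, ha, rfl⟩; exact mul_mem ha ha
  have hzSQ : D.z ∈ SQ := ⟨D.b, D.b_mem, D.root.1⟩
  have hvSQ : v ∉ SQ := by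
    rintro ⟨a, ha, e⟩
    exact hvz (D.sq_eq hN (e := a) ⟨e, hv2, hv1⟩ (D.mem_A.1 ha).1)
  -- elements `y` of `A` with `q * y` a conjugate of `z`
  let Y : Set G := {y | y ∈ D.A ∧ D.Sq (D.q * y)}
  have hY1 : (1 : G) ∈ Y := ⟨one_mem _, by rw [mul_one]; exact D.qconj⟩
  have hYmul : ∀ y ∈ Y, ∀ s ∈ SQ, y * s ∈ Y := by
    rintro y hy _ ⟨a, ha, rfl⟩
    refine ⟨mul_mem hy.1 (mul_mem ha ha), ?_⟩
    rw [show D.q * (y * (a * a)) = a⁻¹ * (D.q * y) * a⁻¹⁻¹ by
      have h1 := D.A_inverted hG hN ha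
      have h2 : a⁻¹ * D.q = D.q * a := by rw [← h1]; group
      rw [inv_inv, ← mul_assoc a⁻¹, h2, mul_assoc D.q a y, (D.A_comm hG hN ha hy.1).eq]
      group]
    exact D.sq_conj hy.2 _
  have hpair : ∀ y ∈ Y, ∀ y' ∈ Y, y * y = y' * y' → y' = y ∨ y' = y * D.z := by
    intro y hy y' hy' e
    have hc := D.A_comm hG hN hy.1 hy'.1
    have hw2 : y⁻¹ * y' * (y⁻¹ * y') = 1 := by
      rw [hc.symm.inv_right.mul_mul_mul_comm, ← e]; group
    have hqy : D.q * y ∉ D.A := fun h => D.q_notMem hG hN (by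
      have := mul_mem h (inv_mem hy.1); rwa [mul_inv_cancel_right] at this)
    rcases D.sq_pair hG hN (mul_mem D.qT (D.mem_A.1 hy.1).1) hqy (mul_mem (inv_mem hy.1) hy'.1) hw2
      hy.2 (by rw [mul_assoc, mul_inv_cancel_left]; exact hy'.2) with h | h
    · exact Or.inl (inv_mul_eq_one.1 h).symm
    · exact Or.inr (inv_mul_eq_iff_eq_mul.1 h)
  -- `Y` meets at most two cosets of `SQ`
  obtain ⟨y₀, hy₀, hcov⟩ : ∃ y₀ ∈ Y, ∀ y ∈ Y, y ∈ SQ ∨ y₀⁻¹ * y ∈ SQ := by
    by_cases h : ∀ y ∈ Y, y ∈ SQ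
    · exact ⟨1, hY1, fun y hy => Or.inl (h y hy)⟩
    push Not at h
    obtain ⟨y₀, hy₀, hy₀'⟩ := h
    refine ⟨y₀, hy₀, fun y hy => ?_⟩
    by_contra hcon
    push Not at hcon
    let S := (SQ : Set G).toFinset
    let f : Fin 3 × G → G := fun p => ![1, y₀, y] p.1 * p.2
    have hinj : Set.InjOn f ((Finset.univ ×ˢ S : Finset (Fin 3 × G)) : Set (Fin 3 × G)) := by
      rintro ⟨i, s⟩ hs ⟨j, s'⟩ hs' e
      simp only [Finset.coe_product, Finset.coe_univ, Set.mem_prod, Set.mem_univ, true_and, S,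
        Set.coe_toFinset, SetLike.mem_coe] at hs hs'
      have hm : (![1, y₀, y] i)⁻¹ * ![1, y₀, y] j ∈ SQ := by
        have e' : ![1, y₀, y] i * s = ![1, y₀, y] j * s' := e
        rw [show (![1, y₀, y] i)⁻¹ * ![1, y₀, y] j = s * s'⁻¹ from
          inv_mul_eq_iff_eq_mul.2 (by rw [← mul_assoc, e', mul_inv_cancel_right])]
        exact mul_mem hs (inv_mem hs')
      have hij : i = j := by
        fin_cases i <;> fin_cases j <;> simp at hm ⊢
        · exact hy₀' hm
        · exact hcon.1 hm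
        · exact hy₀' hm
        · exact hcon.2 hm
        · exact hcon.1 hm
        · exact hcon.2 (by have := inv_mem hm; rwa [mul_inv_rev, inv_inv] at this)
      subst hij
      exact Prod.ext rfl (mul_left_cancel e)
    have h3 : 3 * S.card ≤ (Y.toFinset).card := by
      calc 3 * S.card = (Finset.univ ×ˢ S : Finset (Fin 3 × G)).card := by simp
        _ ≤ _ := Finset.card_le_card_of_injOn f (by
          rintro ⟨i, s⟩ hs
          simp only [Finset.coe_product, Finset.coe_univ, Set.mem_prod, Set.mem_univ, true_and, S,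
            Set.coe_toFinset, SetLike.mem_coe] at hs
          simp only [f, Set.coe_toFinset]
          fin_cases i
          · simpa using hYmul 1 hY1 s hs
          · simpa using hYmul y₀ hy₀ s hs
          · simpa using hYmul y hy s hs) hinj
    have h2 : (Y.toFinset).card ≤ 2 * S.card := by
      refine le_trans (Finset.card_le_mul_card_image (f := fun a => a * a) _ 2 fun a ha => ?_)
        (Nat.mul_le_mul_left _ (Finset.card_le_card ?_))
      · obtain ⟨c, hc, rfl⟩ := Finset.mem_image.1 ha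
        refine le_trans (Finset.card_le_card (t := {c, c * D.z}) fun x hx => ?_) Finset.card_le_two
        simp only [Finset.mem_filter, Set.mem_toFinset] at hx hc
        simp only [Finset.mem_insert, Finset.mem_singleton]
        exact hpair c hc x hx.1 hx.2.symm
      · intro x hx
        obtain ⟨c, hc, rfl⟩ := Finset.mem_image.1 hx
        simp only [Set.mem_toFinset] at hc
        simp only [S, Set.mem_toFinset, SetLike.mem_coe]
        exact ⟨c, hc.1, rfl⟩
    have : 0 < S.card := Finset.card_pos.2 ⟨1, by simp [S, one_mem]⟩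
    omega
  let H : Subgroup G :=
    { carrier := {x | x ∈ SQ ∨ y₀⁻¹ * x ∈ SQ}
      one_mem' := Or.inl (one_mem _)
      mul_mem' := by
        have hm : ∀ x, y₀⁻¹ * x ∈ SQ → x ∈ D.A := fun x hx => by
          have := mul_mem hy₀.1 (hSQA hx); rwa [mul_inv_cancel_left] at this
        intro x x' hx hx'
        rcases hx with hx | hx <;> rcases hx' with hx' | hx'
        · exact Or.inl (mul_mem hx hx')
        · refine Or.inr ?_
          rw [← mul_assoc, (D.A_comm hG hN (inv_mem hy₀.1) (hSQA hx)).eq, mul_assoc]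
          exact mul_mem hx hx'
        · exact Or.inr (by rw [← mul_assoc]; exact mul_mem hx hx')
        · refine Or.inl ?_
          have hc : Commute (y₀⁻¹ * x) y₀ := D.A_comm hG hN (mul_mem (inv_mem hy₀.1) (hm x hx)) hy₀.1
          rw [show x * x' = y₀ * ((y₀⁻¹ * x) * y₀) * (y₀⁻¹ * x') by group, hc.eq,
            ← mul_assoc y₀ y₀]
          exact mul_mem (mul_mem ⟨y₀, hy₀.1, rfl⟩ hx) hx'
      inv_mem' := by
        intro x hx
        rcases hx with hx | hx
        · exact Or.inl (inv_mem hx)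
        · refine Or.inr ?_
          have hxA : x ∈ D.A := by
            have := mul_mem hy₀.1 (hSQA hx); rwa [mul_inv_cancel_left] at this
          rw [show y₀⁻¹ * x⁻¹ = (y₀⁻¹ * y₀⁻¹) * (y₀ * x⁻¹) by group,
            show y₀ * x⁻¹ = (x * y₀⁻¹)⁻¹ by group, (D.A_comm hG hN hxA (inv_mem hy₀.1)).eq]
          exact mul_mem ⟨y₀⁻¹, inv_mem hy₀.1, rfl⟩ (inv_mem hx) }
  have hHA : ∀ x ∈ H, x ∈ D.A := fun x hx => by
    rcases hx with hx | hx
    · exact hSQA hx
    · have := mul_mem hy₀.1 (hSQA hx); rwa [mul_inv_cancel_left] at this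
  have hqH : ∀ x ∈ H, D.q * x * D.q ∈ H := fun x hx => by
    have := D.A_inverted hG hN (hHA x hx)
    rw [D.q_inv.inv_eq] at this
    rw [this]; exact inv_mem hx
  let B : Subgroup G :=
    { carrier := {x | x ∈ H ∨ D.q * x ∈ H}
      one_mem' := Or.inl (one_mem _)
      mul_mem' := by
        intro x x' hx hx'
        rcases hx with hx | hx <;> rcases hx' with hx' | hx'
        · exact Or.inl (mul_mem hx hx')
        · refine Or.inr ?_
          rw [show D.q * (x * x') = D.q * x * D.q⁻¹ * (D.q * x') by group, D.q_inv.inv_eq]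
          exact mul_mem (hqH x hx) hx'
        · exact Or.inr (by rw [← mul_assoc]; exact mul_mem hx hx')
        · refine Or.inl ?_
          rw [show x * x' = D.q⁻¹ * (D.q * x) * D.q⁻¹ * (D.q * x') by group, D.q_inv.inv_eq]
          exact mul_mem (hqH _ hx) hx'
      inv_mem' := by
        intro x hx
        rcases hx with hx | hx
        · exact Or.inl (inv_mem hx)
        · refine Or.inr ?_
          rw [show D.q * x⁻¹ = D.q * (D.q * x)⁻¹ * D.q by group]
          exact hqH _ (inv_mem hx) }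
  have hvB : v ∉ B := by
    rintro (h | h)
    · rcases h with h | h
      · exact hvSQ h
      · have hvY : v ∈ Y := by
          have := hYmul y₀ hy₀ _ h; rwa [mul_inv_cancel_left] at this
        rcases D.sq_pair hG hN D.qT (D.q_notMem hG hN) hv hv2 D.qconj hvY.2 with e | e
        · exact hv1 e
        · exact hvz e
    · refine D.q_notMem hG hN ?_
      have := mul_mem (hHA _ h) (inv_mem hv)
      rwa [mul_inv_cancel_right] at this
  have hBT : B ≤ D.T := by
    rintro x (h | h)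
    · exact (D.mem_A.1 (hHA x h)).1
    · have := mul_mem (inv_mem D.qT) (D.mem_A.1 (hHA _ h)).1
      rwa [inv_mul_cancel_left] at this
  obtain ⟨Q, hBQ, hQmax⟩ := Finite.exists_le_maximal
    (p := fun K : Subgroup G => K ≤ D.T ∧ v ∉ K) (a := B) ⟨hBT, hvB⟩
  obtain ⟨hQT, hvQ⟩ := hQmax.prop
  have hsq : ∀ x ∈ (D.T : Subgroup G), x * x ∈ Q := by
    intro x hx
    by_cases hxA : x ∈ D.A
    · exact hBQ (Or.inl (Or.inl ⟨x, hxA, rfl⟩))
    · rw [(D.outside hG hN hx hxA).1.1]; exact one_mem _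
  have hQn : ∀ y ∈ (D.T : Subgroup G), ∀ x ∈ Q, y * x * y⁻¹ ∈ Q := by
    intro y hy x hx
    rw [show y * x * y⁻¹ = (y * x) * (y * x) * x⁻¹ * (y * y)⁻¹ by group]
    exact mul_mem (mul_mem (hsq _ (mul_mem hy (hQT hx))) (inv_mem hx)) (inv_mem (hsq y hy))
  have hvT : v ∈ (D.T : Subgroup G) := (D.mem_A.1 hv).1
  have hQi : Q.relIndex (D.T : Subgroup G) = 2 := by
    have hcover : ∀ y ∈ (D.T : Subgroup G), y ∉ Q → y * v ∈ Q := by
      intro y hy hyQ
      let K : Subgroup G :=
        { carrier := {x | x ∈ Q ∨ y * x ∈ Q}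
          one_mem' := Or.inl (one_mem _)
          mul_mem' := by
            intro x x' hx hx'
            rcases hx with hx | hx <;> rcases hx' with hx' | hx'
            · exact Or.inl (mul_mem hx hx')
            · refine Or.inr ?_
              rw [show y * (x * x') = (y * x * y⁻¹) * (y * x') by group]
              exact mul_mem (hQn y hy x hx) hx'
            · exact Or.inr (by rw [← mul_assoc]; exact mul_mem hx hx')
            · refine Or.inl ?_
              rw [show x * x' = (y⁻¹ * (y * x) * y⁻¹⁻¹) * (y * y)⁻¹ * (y * x') by group]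
              exact mul_mem (mul_mem (hQn _ (inv_mem hy) _ hx) (inv_mem (hsq y hy))) hx'
          inv_mem' := by
            intro x hx
            rcases hx with hx | hx
            · exact Or.inl (inv_mem hx)
            · refine Or.inr ?_
              rw [show y * x⁻¹ = y * (y * x)⁻¹ * y⁻¹ * (y * y) by group]
              exact mul_mem (hQn y hy _ (inv_mem hx)) (hsq y hy) }
      by_contra hyv
      have hKT : K ≤ D.T := by
        rintro x (h | h)
        · exact hQT h
        · have := mul_mem (inv_mem hy) (hQT h); rwa [inv_mul_cancel_left] at this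
      have hQK : Q ≤ K := fun x hx => Or.inl hx
      have := hQmax.2 (y := K) ⟨hKT, fun h => h.elim hvQ hyv⟩ hQK
      exact hyQ (this (Or.inr (hsq y hy)))
    rw [relIndex, index_eq_two_iff]
    refine ⟨⟨v, hvT⟩, fun y => ?_⟩
    by_cases hy : (y : G) ∈ Q
    · refine Or.inr ⟨hy, fun h => hvQ ?_⟩
      have := mul_mem (inv_mem hy) (show (y : G) * v ∈ Q from h)
      rwa [inv_mul_cancel_left] at this
    · exact Or.inl ⟨hcover y y.2 hy, hy⟩
  haveI : Fact (Nat.Prime 2) := ⟨Nat.prime_two⟩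
  rcases CfsgLib.ThompsonTransfer.thompson_transfer (D.T : Subgroup G) Q
      (Nat.odd_iff.2 (Nat.two_dvd_ne_zero.1 D.T.not_dvd_index)) hQi hv2 with
    ⟨M, hM, hMi, -⟩ | ⟨g, hg⟩
  · haveI := hM
    rcases hM.eq_bot_or_eq_top with e | e
    · rw [e, index_bot] at hMi
      haveI : IsCyclic G := isCyclic_of_prime_card (p := 2) hMi
      exact hna IsCyclic.isMulCommutative
    · rw [e, index_top] at hMi; omega
  by_cases hne : g * v * g⁻¹ = v
  · exact hvQ (hne ▸ hg)
  obtain ⟨r, hr, hrT, hrA, e⟩ := D.conj_form hG hN hv hv2 (hQT hg) hne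
  have hyA := (D.mem_or hG hN hrT).resolve_left hrA
  have hyY : D.q * r ∈ Y := ⟨hyA, by rwa [← mul_assoc, D.q_inv.1, one_mul]⟩
  have hrQ : r ∈ Q := by
    have h1 : D.q * r ∈ Q := hBQ (Or.inl (hcov _ hyY))
    have h2 : D.q ∈ Q := hBQ (Or.inr (by rw [D.q_inv.1]; exact Or.inl (one_mem _)))
    have := mul_mem h2 h1
    rwa [← mul_assoc, D.q_inv.1, one_mul] at this
  refine hvQ ?_
  have hzQ : D.z ∈ Q := hBQ (Or.inl (Or.inl hzSQ))
  have := mul_mem (mul_mem (inv_mem hrQ) hg) (inv_mem hzQ)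
  rwa [e, inv_mul_cancel_left, mul_inv_cancel_right] at this

end Base

/-- Without linked involutions, a root leads to `PSL(2, q)`. -/
theorem Hyp.dihedral_case (hG : Hyp G) [IsSimpleGroup G] (hna : ¬ IsMulCommutative G)
    (hN : NoLink G) {a t : G} (ha : Root a t) :
    ∃ (F : Type) (_ : Field F) (_ : Fintype F), Odd (Fintype.card F) ∧
      Nonempty (G ≃* Matrix.ProjectiveSpecialLinearGroup (Fin 2) F) := by
  obtain ⟨D⟩ := hG.exists_base hna ha
  have hAT : D.A ≤ (D.T : Subgroup G) := inf_le_left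
  haveI hcyc : IsCyclic D.A := isCyclic_of_two_roots (D.T.2.to_le hAT)
    (fun x hx y hy => D.A_comm hG hN hx hy) (fun x hx h => D.invol_eq hG hN hna hx h)
  obtain ⟨⟨c, hcA⟩, hc⟩ := hcyc.exists_zpow_surjective
  have hcpow : ∀ y ∈ D.A, y ∈ zpowers c := fun y hy => by
    obtain ⟨i, hi⟩ := hc ⟨y, hy⟩
    exact mem_zpowers_iff.2 ⟨i, congrArg Subtype.val hi⟩
  have hzc := hcpow _ D.z_mem
  set a' : (D.T : Subgroup G) := ⟨c, hAT hcA⟩ with ha'
  have hmem : ∀ x : (D.T : Subgroup G), x ∈ zpowers a' ↔ (x : G) ∈ D.A := fun x => by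
    constructor
    · rintro ⟨i, rfl⟩; exact zpow_mem hcA i
    · intro hx
      obtain ⟨i, hi⟩ := mem_zpowers_iff.1 (hcpow _ hx)
      exact mem_zpowers_iff.2 ⟨i, Subtype.ext hi⟩
  have hn : 2 ≤ orderOf a' := by
    have h1 : orderOf D.z ∣ orderOf c := orderOf_dvd_of_mem_zpowers hzc
    rw [D.root.2.orderOf] at h1
    rw [ha', Subgroup.orderOf_mk]
    exact Nat.le_of_dvd (orderOf_pos c) h1
  haveI : NeZero (orderOf a') := ⟨(orderOf_pos a').ne'⟩
  have hD := HalfTransP.nonempty_dihedral_equiv (a := a') (t := (⟨D.q, D.qT⟩ : (D.T : Subgroup G)))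
    rfl (Subtype.ext D.q_inv.1) (fun h => D.q_notMem hG hN ((hmem _).1 h))
    (Subtype.ext (by
      show D.q * c * D.q⁻¹ * c = 1
      rw [D.A_inverted hG hN hcA, inv_mul_cancel]))
    (by
      rw [index_eq_two_iff]
      refine ⟨⟨D.q, D.qT⟩, fun x => ?_⟩
      rw [hmem, hmem]
      by_cases hx : (x : G) ∈ D.A
      · refine Or.inr ⟨hx, fun h => D.q_notMem hG hN ?_⟩
        have := mul_mem (inv_mem hx) (show (x : G) * D.q ∈ D.A from h)
        rwa [inv_mul_cancel_left] at this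
      · exact Or.inl ⟨D.outside_mul hG hN x.2 hx D.qT (D.q_notMem hG hN), hx⟩)
  have hOC : ∀ y ∈ core D.z, ∀ x ∈ D.A, Commute x y := by
    intro y hy x hx
    have hxc : Commute c y := by
      have hyz := commute_of_mem_core hy
      have hconj := hG.conj_mem D.root.2 hzc hyz
      have h1 : c * y * c⁻¹ * y⁻¹ ∈ zpowers c := by
        rw [show c * y * c⁻¹ * y⁻¹ = c * (y * c⁻¹ * y⁻¹) by group, ← conj_inv]
        exact mul_mem (mem_zpowers c) (inv_mem hconj)
      have h2 : Odd (orderOf (c * y * c⁻¹ * y⁻¹)) := by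
        refine odd_of_mem_core (t := D.z) (mul_mem ?_ (inv_mem hy))
        exact hG.mem_core D.root.2 (by
            rw [← MulAut.conj_apply, MulEquiv.orderOf_eq]; exact odd_of_mem_core hy)
          ((D.Tz c (hAT hcA)).mul_left hyz |>.mul_left (D.Tz c (hAT hcA)).inv_left)
      obtain ⟨k, hk⟩ := twoElt_of_mem D.T.2 ((zpowers_le.2 (hAT hcA)) h1)
      rw [hk] at h2
      rcases k with _ | k
      · rw [pow_zero, orderOf_eq_one_iff, mul_inv_eq_one] at hk
        exact mul_inv_eq_iff_eq_mul.1 hk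
      · exact absurd h2 (by rw [Nat.not_odd_iff_even, pow_succ']; exact even_two_mul _)
    obtain ⟨i, rfl⟩ := mem_zpowers_iff.1 (hcpow x hx)
    exact hxc.zpow_left i
  have hfree : ∀ y ∈ core D.z, y ≠ 1 → ∀ x ∈ (D.T : Subgroup G), x ∉ D.A → ¬ Commute x y := by
    intro y hy hy1 x hx hxA hxy
    have he := hG.eq_of_odd D.root.2 (D.outside hG hN hx hxA).1 (odd_of_mem_core hy) hy1
      (commute_of_mem_core hy) hxy.symm
    have hb : D.b ∈ centralizer ({x} : Set G) := he ▸ mem_centralizer_singleton_iff.2 D.root.comm.eq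
    exact hxA (D.mem_A.2 ⟨hx, (mem_centralizer_singleton_iff.1 hb).symm⟩)
  refine Cfsg.Agent.S0508.result D.T (orderOf a') hn hD D.z D.root.2.orderOf D.zT
    (fun s hs => (D.Tz s hs).eq) (core D.z) rfl (fun hO => ?_) (fun s hs hsC y hy => ?_) ?_
  · have he : (D.T : Subgroup G) ⊓ centralizer (core D.z : Set G) = D.A := by
      refine le_antisymm (fun x hx => ?_) (fun x hx => ⟨hAT hx, ?_⟩)
      · by_contra hxA
        obtain ⟨y, hy, hy1⟩ := (core D.z).bot_or_exists_ne_one.resolve_left hO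
        exact hfree y hy hy1 x hx.1 hxA (mem_centralizer_iff.1 hx.2 y hy).symm
      · exact mem_centralizer_iff.2 fun y hy => (hOC y hy x hx).symm.eq
    rw [he]
    refine ⟨hcyc, ?_⟩
    rw [relIndex, index_eq_two_iff]
    refine ⟨⟨D.q, D.qT⟩, fun x => ?_⟩
    simp only [mem_subgroupOf, coe_mul]
    by_cases hx : (x : G) ∈ D.A
    · refine Or.inr ⟨hx, fun h => D.q_notMem hG hN ?_⟩
      have := mul_mem (inv_mem hx) h
      rwa [inv_mul_cancel_left] at this
    · exact Or.inl ⟨D.outside_mul hG hN x.2 hx D.qT (D.q_notMem hG hN), hx⟩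
  · have hsA : s ∉ D.A := fun h => hsC (mem_centralizer_iff.2 fun w hw => (hOC w hw s h).symm.eq)
    have hsi := (D.outside hG hN hs hsA).1
    have hsy : s * y * s⁻¹ ∈ core D.z := hG.mem_core D.root.2
      (by rw [← MulAut.conj_apply, MulEquiv.orderOf_eq]; exact odd_of_mem_core hy)
      (((D.Tz s hs).mul_left (commute_of_mem_core hy)).mul_left (D.Tz s hs).inv_left)
    have hfix : Commute s (s * y * s⁻¹ * y) := by
      refine mul_inv_eq_iff_eq_mul.1 ?_
      rw [← conj_mul, hsi.inv_eq, show s * (s * y * s) * s = (s * s) * y * (s * s) by group, hsi.1,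
        one_mul, mul_one]
      have := (hG.core_commute D.root.2 hsy hy).eq
      rw [hsi.inv_eq] at this
      exact this.symm
    refine eq_inv_of_mul_eq_one_left ?_
    by_contra hne
    exact hfree _ (mul_mem hsy hy) hne s hs hsA hfix
  · intro Y hY hY0 g hg
    obtain ⟨y, hy, hy1⟩ := Y.bot_or_exists_ne_one.resolve_left hY0
    have hgy : g * y * g⁻¹ ∈ core D.z := hY ((mem_normalizer_iff.1 hg y).1 hy)
    have hz' : Commute y (g⁻¹ * D.z * g) := by
      have := (commute_of_mem_core hgy).eq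
      show y * (g⁻¹ * D.z * g) = g⁻¹ * D.z * g * y
      calc y * (g⁻¹ * D.z * g) = g⁻¹ * (g * y * g⁻¹ * D.z) * g := by group
        _ = g⁻¹ * (D.z * (g * y * g⁻¹)) * g := by rw [this]
        _ = _ := by group
    have hroot : Root (g⁻¹ * D.b * g) (g⁻¹ * D.z * g) := by simpa using D.root.conj g⁻¹
    have he := hG.eq_of_odd D.root.2 hroot.2 (odd_of_mem_core (hY hy)) hy1
      (commute_of_mem_core (hY hy)) hz'
    have hb : D.b ∈ centralizer ({g⁻¹ * D.z * g} : Set G) :=
      he ▸ mem_centralizer_singleton_iff.2 D.root.comm.eq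
    have := hN D.b _ D.z _ D.root hroot (mem_centralizer_singleton_iff.1 hb)
    refine mem_centralizer_singleton_iff.2 ?_
    calc g * D.z = g * (g⁻¹ * D.z * g) := by rw [← this]
      _ = _ := by group

end CfsgLib.NormCyclic
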