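import Cfsg.Agent.NormCyclic.Basic
import Cfsg.Agent.AutPSL.Bridge

/-!
# Almost simple groups over `PSL(2, q)` with the normaliser hypothesis

A group between `PSL(2, q)` and its automorphism group satisfying `Hyp` contains no field
automorphism, unless `q = 4`.
-/

set_option autoImplicit false
set_option linter.style.haveILetI false
set_option linter.unusedSectionVars false

namespace CfsgLib.NormCyclic

open CfsgLib.AutPSL
open scoped Matrix

namespace PSLAut

variable {F : Type} [Field F] [Finite F]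

/-- `PSL(2, F)`, briefly. -/
abbrev P (F : Type) [Field F] := Matrix.ProjectiveSpecialLinearGroup (Fin 2) F

/-- Conjugation by a matrix of determinant one. -/
def inn : Matrix.SpecialLinearGroup (Fin 2) F →* MulAut (P F) :=
  (innDiagHom 2 F).comp Matrix.SpecialLinearGroup.toGL

theorem innDiag_eq {g h : GL (Fin 2) F} (e : innDiagHom 2 F g = innDiagHom 2 F h) :
    ∃ c : F, (g : Matrix (Fin 2) (Fin 2) F) = c • (h : Matrix (Fin 2) (Fin 2) F) := by
  have h1 : semiAut (h⁻¹ * g) (RingEquiv.refl F) = 1 := by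
    rw [← innDiagHom_apply, map_mul, map_inv, e, inv_mul_cancel]
  obtain ⟨-, c, hc⟩ := semiAut_eq_one le_rfl h1
  refine ⟨c, ?_⟩
  rw [show g = h * (h⁻¹ * g) by rw [mul_inv_cancel_left], Units.val_mul, hc, Matrix.mul_smul,
    Matrix.mul_one]

theorem inn_eq {s t : Matrix.SpecialLinearGroup (Fin 2) F} (e : inn s = inn t) :
    ∃ c : F, (s : Matrix (Fin 2) (Fin 2) F) = c • (t : Matrix (Fin 2) (Fin 2) F) :=
  innDiag_eq e

theorem inn_apply (s : Matrix.SpecialLinearGroup (Fin 2) F) :
    inn s = semiAut (Matrix.SpecialLinearGroup.toGL s) (RingEquiv.refl F) := rfl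

instance finite_ringAut : Finite (F ≃+* F) :=
  Finite.of_injective (fun σ : F ≃+* F => (σ : F → F)) DFunLike.coe_injective

theorem comm_field {σ : F ≃+* F} {g : GL (Fin 2) F} (hg : glMap σ g = g) :
    Commute (semiAut (1 : GL (Fin 2) F) σ) (innDiagHom 2 F g) := by
  show semiAut 1 σ * semiAut g _ = semiAut g _ * semiAut 1 σ
  rw [semiAut_mul, semiAut_mul, one_mul, map_one, mul_one, hg]
  rfl

theorem comm_field_inn {σ : F ≃+* F} {s : Matrix.SpecialLinearGroup (Fin 2) F}
    (hs : (s : Matrix (Fin 2) (Fin 2) F).map σ = (s : Matrix (Fin 2) (Fin 2) F)) :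
    Commute (semiAut (1 : GL (Fin 2) F) σ) (inn s) :=
  comm_field (Units.ext hs)

/-- The upper transvections. -/
def up (a : F) : Matrix.SpecialLinearGroup (Fin 2) F :=
  ⟨!![1, a; 0, 1], by simp [Matrix.det_fin_two]⟩

/-- The lower transvection. -/
def lo : Matrix.SpecialLinearGroup (Fin 2) F := ⟨!![1, 0; -1, 1], by simp [Matrix.det_fin_two]⟩

/-- The Weyl element. -/
def wy : Matrix.SpecialLinearGroup (Fin 2) F := ⟨!![0, 1; -1, 0], by simp [Matrix.det_fin_two]⟩

/-- A diagonal element. -/
def tor (a : Fˣ) : Matrix.SpecialLinearGroup (Fin 2) F :=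
  ⟨!![(a : F), 0; 0, ((a⁻¹ : Fˣ) : F)], by simp [Matrix.det_fin_two]⟩

theorem coe_up (a : F) : ((up a : Matrix.SpecialLinearGroup (Fin 2) F) : Matrix (Fin 2) (Fin 2) F) = !![1, a; 0, 1] := rfl

theorem coe_wy : ((wy : Matrix.SpecialLinearGroup (Fin 2) F) : Matrix (Fin 2) (Fin 2) F) = !![0, 1; -1, 0] := rfl

theorem coe_tor (a : Fˣ) : ((tor a : Matrix.SpecialLinearGroup (Fin 2) F) : Matrix (Fin 2) (Fin 2) F) =
    !![(a : F), 0; 0, ((a⁻¹ : Fˣ) : F)] := rfl

theorem coe_conj_up (x : Matrix.SpecialLinearGroup (Fin 2) F) :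
    ((up 1 * x * (up 1)⁻¹ : Matrix.SpecialLinearGroup (Fin 2) F) : Matrix (Fin 2) (Fin 2) F) =
      !![1, 1; 0, 1] * (x : Matrix (Fin 2) (Fin 2) F) * !![1, -1; 0, 1] := by
  rw [Matrix.SpecialLinearGroup.coe_mul, Matrix.SpecialLinearGroup.coe_mul,
    Matrix.SpecialLinearGroup.coe_inv, coe_up, Matrix.adjugate_fin_two]
  simp

theorem coe_conj_wy (x : Matrix.SpecialLinearGroup (Fin 2) F) :
    ((wy * x * wy⁻¹ : Matrix.SpecialLinearGroup (Fin 2) F) : Matrix (Fin 2) (Fin 2) F) =
      !![0, 1; -1, 0] * (x : Matrix (Fin 2) (Fin 2) F) * !![0, -1; 1, 0] := by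
  rw [Matrix.SpecialLinearGroup.coe_mul, Matrix.SpecialLinearGroup.coe_mul,
    Matrix.SpecialLinearGroup.coe_inv, coe_wy, Matrix.adjugate_fin_two]
  simp

theorem up_add (a b : F) : (up a : Matrix.SpecialLinearGroup (Fin 2) F) * up b = up (a + b) := by
  apply Subtype.ext
  rw [Matrix.SpecialLinearGroup.coe_mul, coe_up, coe_up, coe_up]
  simp [Matrix.mul_fin_two, add_comm]

theorem up_pow (a : F) (n : ℕ) : (up a) ^ n = up (n * a) := by
  induction n with
  | zero => apply Subtype.ext; rw [pow_zero, Matrix.SpecialLinearGroup.coe_one, coe_up]; simp [Matrix.one_fin_two]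
  | succ n ih => rw [pow_succ, ih, up_add]; congr 1; push_cast; ring

theorem tor_mul (a b : Fˣ) : (tor a : Matrix.SpecialLinearGroup (Fin 2) F) * tor b = tor (a * b) := by
  apply Subtype.ext
  rw [Matrix.SpecialLinearGroup.coe_mul, coe_tor, coe_tor, coe_tor]
  simp [Matrix.mul_fin_two, mul_comm]

theorem tor_pow (a : Fˣ) (n : ℕ) : (tor a) ^ n = tor (a ^ n) := by
  induction n with
  | zero => apply Subtype.ext; rw [pow_zero, Matrix.SpecialLinearGroup.coe_one, coe_tor]; simp [Matrix.one_fin_two]
  | succ n ih => rw [pow_succ, ih, tor_mul, pow_succ]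

/-- The field automorphisms of an automorphism of `PSL₂` power up. -/
theorem semiAut_pow (g : GL (Fin 2) F) (σ : F ≃+* F) (n : ℕ) :
    ∃ g' : GL (Fin 2) F, (semiAut g σ) ^ n = semiAut g' (σ ^ n) ∧
      ((σ = 1 ∨ True) → ∀ χ : Fˣ →* Multiplicative (ZMod 2),
        (∀ x : Fˣ, χ (Units.map (σ : F →* F) x) = χ x) →
        χ (Matrix.GeneralLinearGroup.det g') = χ (Matrix.GeneralLinearGroup.det g) ^ n) := by
  induction n with
  | zero =>
    exact ⟨1, by rw [pow_zero, pow_zero]; exact semiAut_one.symm, fun _ χ _ => by simp⟩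
  | succ n ih =>
    obtain ⟨g', h1, h2⟩ := ih
    refine ⟨g * glMap σ g', ?_, fun ht χ hχ => ?_⟩
    · rw [pow_succ', h1, semiAut_mul, pow_succ']
      rfl
    · have hd : Matrix.GeneralLinearGroup.det (glMap σ g') =
          Units.map (σ : F →* F) (Matrix.GeneralLinearGroup.det g') :=
        Units.ext (det_map_ringEquiv σ _)
      rw [map_mul, map_mul, hd, hχ, h2 ht χ hχ, pow_succ']

variable {H : Subgroup (MulAut (P F))}

/-- A field automorphism in `H` contradicts `Hyp`. -/
theorem no_field (hH : Hyp ↥H) (hinn : ∀ s, inn s ∈ H) {σ : F ≃+* F} (hσ : σ ≠ 1) {ℓ : ℕ}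
    (hℓ : ℓ.Prime) (hσℓ : σ ^ ℓ = 1) (hφ : semiAut (1 : GL (Fin 2) F) σ ∈ H)
    (hq : Nat.card F ≠ 4) : False := by
  haveI : Fintype F := Fintype.ofFinite F
  set φ : ↥H := ⟨semiAut 1 σ, hφ⟩ with hφd
  have hpow : ∀ n : ℕ, (semiAut (1 : GL (Fin 2) F) σ) ^ n = semiAut 1 (σ ^ n) := by
    intro n
    induction n with
    | zero => rw [pow_zero, pow_zero]; exact semiAut_one.symm
    | succ n ih => rw [pow_succ', ih, semiAut_mul, map_one, mul_one, pow_succ']; rfl
  have hφℓ : φ ^ ℓ = 1 := Subtype.ext (by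
    rw [SubgroupClass.coe_pow]
    show (semiAut (1 : GL (Fin 2) F) σ) ^ ℓ = 1
    rw [hpow, hσℓ]; exact semiAut_one)
  have hφ1 : φ ≠ 1 := fun e => hσ (semiAut_eq_one le_rfl (congrArg Subtype.val e : semiAut 1 σ = 1)).1
  -- lifts
  set I : Matrix.SpecialLinearGroup (Fin 2) F →* ↥H := inn.codRestrict H hinn with hI
  have hcomm : ∀ s : Matrix.SpecialLinearGroup (Fin 2) F,
      (s : Matrix (Fin 2) (Fin 2) F).map σ = (s : Matrix (Fin 2) (Fin 2) F) → Commute (I s) φ :=
    fun s hs => Subtype.ext (comm_field_inn hs).symm.eq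
  have hIeq : ∀ s t, I s = I t → ∃ c : F,
      (s : Matrix (Fin 2) (Fin 2) F) = c • (t : Matrix (Fin 2) (Fin 2) F) :=
    fun s t e => inn_eq (congrArg Subtype.val e)
  have hne : ∀ s t : Matrix.SpecialLinearGroup (Fin 2) F, ∀ i j k l : Fin 2,
      (t : Matrix (Fin 2) (Fin 2) F) i j = 0 → (s : Matrix (Fin 2) (Fin 2) F) i j ≠ 0 → I s ≠ I t := by
    intro s t i j _ _ ht hs e
    obtain ⟨c, hc⟩ := hIeq s t e
    rw [hc, Matrix.smul_apply, ht, smul_zero] at hs
    exact hs rfl
  have hwfix : ((wy : Matrix.SpecialLinearGroup (Fin 2) F) : Matrix (Fin 2) (Fin 2) F).map σ =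
      ((wy : Matrix.SpecialLinearGroup (Fin 2) F) : Matrix (Fin 2) (Fin 2) F) := by
    ext i j; fin_cases i <;> fin_cases j <;> simp [wy]
  have hufix : ((up 1 : Matrix.SpecialLinearGroup (Fin 2) F) : Matrix (Fin 2) (Fin 2) F).map σ =
      ((up 1 : Matrix.SpecialLinearGroup (Fin 2) F) : Matrix (Fin 2) (Fin 2) F) := by
    ext i j; fin_cases i <;> fin_cases j <;> simp [up]
  rcases hℓ.eq_two_or_odd' with hℓ2 | hℓodd
  swap
  · -- odd order field automorphism
    have hwinv : Inv (I wy) := by
      refine ⟨Subtype.ext ?_, ?_⟩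
      · show inn wy * inn wy = 1
        rw [← map_mul, inn_apply]
        refine semiAut_scalar (c := -1) ?_
        ext i j; fin_cases i <;> fin_cases j <;> simp [coe_wy, Matrix.SpecialLinearGroup.toGL, Matrix.mul_fin_two]
      · rw [← map_one I]
        exact hne _ _ 0 1 0 0 (by simp) (by simp [wy])
    have hφodd : Odd (orderOf φ) := hℓodd.of_dvd_nat (orderOf_dvd_of_pow_eq_one hφℓ)
    have hle := hH.odd_centralizer_le hwinv hφodd hφ1 (hcomm wy hwfix).symm
    have := Subgroup.mem_centralizer_singleton_iff.1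
      (hle (Subgroup.mem_centralizer_singleton_iff.2 (hcomm (up 1) hufix).eq))
    rw [← map_mul, ← map_mul] at this
    exact hne _ _ 0 0 0 0 (by simp [coe_wy, coe_up, Matrix.SpecialLinearGroup.coe_mul, Matrix.mul_fin_two])
      (by simp [coe_wy, coe_up, Matrix.SpecialLinearGroup.coe_mul, Matrix.mul_fin_two]) this
  -- involutory field automorphism
  subst hℓ2
  have hφinv : Inv φ := ⟨by rw [← pow_two, hφℓ], hφ1⟩
  have key : ∀ y r : Matrix.SpecialLinearGroup (Fin 2) F, Odd (orderOf (I y)) → I y ≠ 1 →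
      (y : Matrix (Fin 2) (Fin 2) F).map σ = (y : Matrix (Fin 2) (Fin 2) F) →
      (r : Matrix (Fin 2) (Fin 2) F).map σ = (r : Matrix (Fin 2) (Fin 2) F) →
      Commute (I y) (I (r * y * r⁻¹)) := by
    intro y r hyodd hy1 hy hr
    have hN := hH.odd_normalizer hφinv hyodd hy1 (hcomm y hy)
    have hrm : I r ∈ Subgroup.normalizer (Subgroup.zpowers (I y) : Set ↥H) :=
      hN ▸ Subgroup.mem_centralizer_singleton_iff.2 (hcomm r hr).eq
    obtain ⟨i, hi⟩ := Subgroup.mem_zpowers_iff.1
      ((Subgroup.mem_normalizer_iff.1 hrm (I y)).1 (Subgroup.mem_zpowers _))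
    rw [map_mul, map_mul, map_inv, ← hi]
    exact (Commute.refl _).zpow_right i
  rcases Nat.even_or_odd (Fintype.card F) with hev | hodd
  · -- characteristic two
    have h2 : (2 : F) = 0 := by
      haveI : CharP F (ringChar F) := ringChar.charP F
      have hc : ringChar F = 2 := (FiniteField.even_card_iff_char_two).2 (Nat.even_iff.1 hev)
      haveI : CharP F 2 := hc ▸ ringChar.charP F
      exact CharP.cast_eq_zero F 2
    -- a fixed element different from 0 and 1
    obtain ⟨x, hx0, hx1, hxσ⟩ : ∃ x : F, x ≠ 0 ∧ x ≠ 1 ∧ σ x = x := by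
      by_contra hcon
      push Not at hcon
      have hσσ : ∀ x, σ (σ x) = x := fun x => by
        have := RingEquiv.congr_fun hσℓ x
        rwa [pow_two] at this
      have hinv : ∀ x : F, x ≠ 0 → σ x * x = 1 := fun x hx => by
        by_contra h
        refine hcon (σ x * x) (mul_ne_zero (by simpa using hx) hx) h ?_
        rw [map_mul, hσσ, mul_comm]
      have hall : ∀ x : F, x ^ 4 = x := by
        intro x
        by_cases hx : x = 0
        · rw [hx]; ring
        by_cases hx1 : x + 1 = 0
        · rw [eq_neg_of_add_eq_zero_left hx1]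
          linear_combination h2
        have a := hinv x hx
        have b := hinv (x + 1) hx1
        rw [map_add, map_one] at b
        have e : x * x + x + 1 = 0 := by
          linear_combination x * b - (x + 1) * a
        linear_combination (x * x - x) * e
      refine hq ?_
      have hle : Fintype.card F ≤ 4 := by
        classical
        have h := Polynomial.card_le_degree_of_subset_roots (p := (Polynomial.X ^ 4 - Polynomial.X : Polynomial F))
          (Z := Finset.univ) (fun x _ => by
            rw [Polynomial.mem_roots (FiniteField.X_pow_card_sub_X_ne_zero F (by norm_num))]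
            simp [hall x])
        rwa [Finset.card_univ, FiniteField.X_pow_card_sub_X_natDegree_eq F (by norm_num)] at h
      rw [Nat.card_eq_fintype_card]
      have h3 : 2 < Fintype.card F := by
        by_contra h3
        have hFc : Fintype.card F = 2 := by
          have := Fintype.one_lt_card (α := F); omega
        refine hσ (RingEquiv.ext fun x => ?_)
        show σ x = x
        classical
        by_cases hx : x = 0
        · rw [hx, map_zero]
        · have : x = 1 := by
            have h := FiniteField.pow_card_sub_one_eq_one x hx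
            rwa [hFc, pow_one] at h
          rw [this, map_one]
      obtain ⟨k, hk⟩ := hev
      omega
    set a : Fˣ := Units.mk0 x hx0
    have hyodd : Odd (orderOf (I (tor a))) := by
      refine Odd.of_dvd_nat (n := Fintype.card F - 1) ?_ (orderOf_dvd_of_pow_eq_one ?_)
      · obtain ⟨k, hk⟩ := hev
        have := Fintype.one_lt_card (α := F)
        exact ⟨k - 1, by omega⟩
      · rw [← map_pow, tor_pow, show a ^ (Fintype.card F - 1) = 1 from
          Units.ext (by rw [Units.val_pow_eq_pow_val]; exact FiniteField.pow_card_sub_one_eq_one x hx0)]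
        convert map_one I
        apply Subtype.ext; simp [tor, Matrix.one_fin_two]
    have hxx : x * x ≠ 1 := fun e => hx1 (by
      have : (x - 1) * (x - 1) = 0 := by linear_combination e + (1 - x) * h2
      rcases mul_eq_zero.1 this with h | h <;> exact sub_eq_zero.1 h)
    have hy1 : I (tor a) ≠ 1 := by
      intro e
      rw [← map_one I] at e
      obtain ⟨c, hc⟩ := hIeq _ _ e
      have h00 := congrFun (congrFun hc 0) 0
      have h11 := congrFun (congrFun hc 1) 1
      simp [tor, a] at h00 h11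
      rw [← h00] at h11
      exact hxx (by field_simp at h11; linear_combination -h11)
    have hcm := key (tor a) (up 1) hyodd hy1
      (by ext i j; fin_cases i <;> fin_cases j <;> simp [tor, a, hxσ, map_inv₀]) hufix
    rw [Commute, SemiconjBy, ← map_mul, ← map_mul] at hcm
    obtain ⟨c, hc⟩ := hIeq _ _ hcm
    simp only [Matrix.SpecialLinearGroup.coe_mul, Matrix.SpecialLinearGroup.coe_inv, coe_up, coe_tor,
      Matrix.adjugate_fin_two_of] at hc
    have h00 := congrFun (congrFun hc 0) 0
    have h01 := congrFun (congrFun hc 0) 1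
    simp [a, Matrix.mul_fin_two] at h00 h01
    have hc1 : c = 1 := by
      have : (c - 1) * (x * x) = 0 := by linear_combination -h00
      rcases mul_eq_zero.1 this with h | h
      · exact sub_eq_zero.1 h
      · exact absurd h (mul_ne_zero hx0 hx0)
    rw [hc1, one_mul] at h01
    field_simp at h01
    refine hxx ?_
    rcases mul_eq_zero.1 (show (x * x - 1) * (x * x - 1) = 0 by
      first | linear_combination h01 | linear_combination -h01) with h | h <;> exact sub_eq_zero.1 h
  · -- odd characteristic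
    have hp : Odd (orderOf (I (up 1))) := by
      refine hodd.of_dvd_nat (orderOf_dvd_of_pow_eq_one ?_)
      rw [← map_pow, up_pow, FiniteField.cast_card_eq_zero, zero_mul]
      convert map_one I
      apply Subtype.ext; simp [up, Matrix.one_fin_two]
    have hy1 : I (up 1) ≠ 1 := by
      rw [← map_one I]; exact hne _ _ 0 1 0 0 (by simp) (by simp [up])
    have hcm := key (up 1) wy hp hy1 hufix hwfix
    rw [Commute, SemiconjBy, ← map_mul, ← map_mul] at hcm
    exact hne _ _ 0 0 0 0
      (by rw [Matrix.SpecialLinearGroup.coe_mul, coe_conj_wy, coe_up]; simp [Matrix.mul_fin_two])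
      (by rw [Matrix.SpecialLinearGroup.coe_mul, coe_conj_wy, coe_up]; simp [Matrix.mul_fin_two]) hcm.symm

/-- The diagonal matrices `diag(a, 1)`. -/
def dg : Fˣ →* GL (Fin 2) F where
  toFun a := ⟨!![(a : F), 0; 0, 1], !![((a⁻¹ : Fˣ) : F), 0; 0, 1],
    by simp [Matrix.mul_fin_two, Matrix.one_fin_two], by simp [Matrix.mul_fin_two, Matrix.one_fin_two]⟩
  map_one' := Units.ext (by simp [Matrix.one_fin_two])
  map_mul' a b := Units.ext (by simp [Matrix.mul_fin_two])

theorem coe_toGL_wy : ((Matrix.SpecialLinearGroup.toGL (wy : Matrix.SpecialLinearGroup (Fin 2) F) : GL (Fin 2) F) :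
    Matrix (Fin 2) (Fin 2) F) = !![0, 1; -1, 0] := rfl

theorem coe_dg (a : Fˣ) : ((dg a : GL (Fin 2) F) : Matrix (Fin 2) (Fin 2) F) = !![(a : F), 0; 0, 1] :=
  rfl

theorem det_dg (a : Fˣ) : Matrix.GeneralLinearGroup.det (dg a) = a :=
  Units.ext (by simp [dg, Matrix.det_fin_two])

theorem glMap_dg (σ : F ≃+* F) (a : Fˣ) : glMap σ (dg a) = dg (Units.map (σ : F →* F) a) := by
  refine Units.ext ?_
  rw [coe_glMap]
  rw [coe_dg, coe_dg]
  ext i j; fin_cases i <;> fin_cases j <;> first | rfl | exact map_zero σ | exact map_one σ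

theorem isSquare_map (σ : F ≃+* F) {x : Fˣ} :
    IsSquare (Units.map (σ : F →* F) x) ↔ IsSquare x := by
  refine ⟨fun h => ?_, fun h => h.map _⟩
  have := h.map (Units.map (σ.symm : F →* F))
  rwa [show Units.map (σ.symm : F →* F) (Units.map (σ : F →* F) x) = x from
    Units.ext (σ.symm_apply_apply (x : F))] at this

/-- Norm-one elements of a quadratic extension of odd order are squares. -/
theorem isSquare_of_norm_one (hodd : (2 : F) ≠ 0) {σ : F ≃+* F} (hσ : σ ≠ 1)
    (hσσ : ∀ x, σ (σ x) = x) (hsq : ∀ x y : Fˣ, ¬ IsSquare x → ¬ IsSquare y → IsSquare (x * y⁻¹))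
    {x : Fˣ} (hx : σ (x : F) * x = 1) : IsSquare x := by
  obtain ⟨m, hm, hxm⟩ : ∃ m : Fˣ, True ∧ x = m * (Units.map (σ : F →* F) m)⁻¹ := by
    by_cases h : (x : F) + 1 = 0
    · obtain ⟨v, hv⟩ : ∃ v, σ v ≠ v := by
        by_contra h'; push Not at h'; exact hσ (RingEquiv.ext h')
      refine ⟨Units.mk0 (v - σ v) (sub_ne_zero.2 hv.symm), trivial, ?_⟩
      rw [eq_mul_inv_iff_mul_eq]
      refine Units.ext ?_
      rw [Units.val_mul, Units.coe_map, Units.val_mk0, eq_neg_of_add_eq_zero_left h]
      show -1 * σ (v - σ v) = v - σ v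
      rw [map_sub, hσσ]; ring
    · refine ⟨Units.mk0 _ h, trivial, ?_⟩
      rw [eq_mul_inv_iff_mul_eq]
      refine Units.ext ?_
      rw [Units.val_mul, Units.coe_map, Units.val_mk0]
      show (x : F) * σ ((x : F) + 1) = x + 1
      rw [map_add, map_one]
      linear_combination hx
  subst hxm
  by_cases h : IsSquare m
  · exact h.mul ((isSquare_map σ).2 h).inv
  · exact hsq _ _ h (fun h' => h ((isSquare_map σ).1 h'))

/-- The groups between `PSL(2, q)` and its automorphism group satisfying `Hyp`. -/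
theorem classify (hH : Hyp ↥H) (hinn : ∀ s, inn s ∈ H) (hq : Nat.card F ≠ 4) :
    H = (inn : Matrix.SpecialLinearGroup (Fin 2) F →* _).range ∨ H = (innDiagHom 2 F).range := by
  classical
  haveI : Fintype F := Fintype.ofFinite F
  obtain ⟨ν, hν⟩ := IsCyclic.exists_generator (α := Fˣ)
  have hor : ∀ x : Fˣ, IsSquare x ∨ IsSquare (x * ν) := by
    intro x
    obtain ⟨i, rfl⟩ := Subgroup.mem_zpowers_iff.1 (hν x)
    obtain ⟨k, hk | hk⟩ := Int.even_or_odd' i
    · exact Or.inl ⟨ν ^ k, by rw [← zpow_add, hk, two_mul]⟩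
    · exact Or.inr ⟨ν ^ (k + 1), by rw [← zpow_add, ← zpow_add_one, hk]; ring_nf⟩
  have hsq : ∀ x y : Fˣ, ¬ IsSquare x → ¬ IsSquare y → IsSquare (x * y⁻¹) := by
    intro x y hx hy
    have := ((hor x).resolve_left hx).mul ((hor y).resolve_left hy).inv
    rwa [mul_inv_rev, mul_assoc, mul_inv_cancel_left] at this
  -- determinant square gives an inner automorphism
  have hin : ∀ g : GL (Fin 2) F, IsSquare (Matrix.GeneralLinearGroup.det g) →
      innDiagHom 2 F g ∈ (inn : Matrix.SpecialLinearGroup (Fin 2) F →* _).range := by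
    rintro g ⟨c, hc⟩
    refine ⟨⟨((c⁻¹ : Fˣ) : F) • (g : Matrix (Fin 2) (Fin 2) F), ?_⟩, ?_⟩
    · rw [Matrix.det_smul, Fintype.card_fin, ← Units.val_pow_eq_pow_val,
        ← Matrix.GeneralLinearGroup.val_det_apply, hc, ← Units.val_mul, pow_two,
        show c⁻¹ * c⁻¹ * (c * c) = 1 by group]
      rfl
    · rw [← mul_inv_eq_one]
      show innDiagHom 2 F _ * (innDiagHom 2 F g)⁻¹ = 1
      rw [← map_inv, ← map_mul, innDiagHom_apply]
      refine semiAut_scalar (c := ((c⁻¹ : Fˣ) : F)) ?_
      rw [Units.val_mul]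
      show ((c⁻¹ : Fˣ) : F) • (g : Matrix (Fin 2) (Fin 2) F) * _ = _
      rw [Matrix.smul_mul, ← Units.val_mul, mul_inv_cancel, Units.val_one]
  have hinH : ∀ g : GL (Fin 2) F, IsSquare (Matrix.GeneralLinearGroup.det g) →
      innDiagHom 2 F g ∈ H := fun g hg => by
    obtain ⟨s, hs⟩ := hin g hg
    exact hs ▸ hinn s
  have hall : ∀ g₀ : GL (Fin 2) F, ¬ IsSquare (Matrix.GeneralLinearGroup.det g₀) →
      innDiagHom 2 F g₀ ∈ H → ∀ g, innDiagHom 2 F g ∈ H := by
    intro g₀ h0 h0H g
    by_cases hg : IsSquare (Matrix.GeneralLinearGroup.det g)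
    · exact hinH g hg
    · have : innDiagHom 2 F (g * g₀⁻¹) ∈ H := hinH _ (by rw [map_mul, map_inv]; exact hsq _ _ hg h0)
      have h := mul_mem this h0H
      rwa [← map_mul, inv_mul_cancel_right] at h
  -- no field automorphisms
  have hnofield : ∀ (g : GL (Fin 2) F) (σ : F ≃+* F), semiAut g σ ∈ H → σ = 1 := by
    intro g₁ τ hτH
    by_contra hτ
    obtain ⟨ℓ, hℓ, hdvd⟩ := Nat.exists_prime_and_dvd (mt orderOf_eq_one_iff.1 hτ)
    obtain ⟨g, hg, -⟩ := semiAut_pow g₁ τ (orderOf τ / ℓ)
    set σ := τ ^ (orderOf τ / ℓ) with hσd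
    have hσH : semiAut g σ ∈ H := hg ▸ pow_mem hτH _
    have hσ : σ ≠ 1 := fun e => by
      have h := Nat.le_of_dvd ?_ (orderOf_dvd_of_pow_eq_one e)
      · exact absurd h (not_le.2 (Nat.div_lt_self (orderOf_pos τ) hℓ.one_lt))
      · exact Nat.div_pos (Nat.le_of_dvd (orderOf_pos τ) hdvd) hℓ.pos
    have hσℓ : σ ^ ℓ = 1 := by
      rw [hσd, ← pow_mul, Nat.div_mul_cancel hdvd, pow_orderOf_eq_one]
    have hpure : innDiagHom 2 F g ∈ H → False := fun hgH => by
      refine no_field hH hinn hσ hℓ hσℓ ?_ hq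
      have h := mul_mem (inv_mem hgH) hσH
      rw [← map_inv, innDiagHom_apply, semiAut_mul, glMap_refl, inv_mul_cancel] at h
      exact h
    by_cases hgsq : IsSquare (Matrix.GeneralLinearGroup.det g)
    · exact hpure (hinH g hgsq)
    rcases hℓ.eq_two_or_odd' with hℓ2 | hℓodd
    swap
    · -- a power is a non-inner diagonal automorphism
      obtain ⟨g', hg', hχ⟩ := semiAut_pow g σ ℓ
      rw [hσℓ] at hg'
      have hg'H : innDiagHom 2 F g' ∈ H := by
        rw [innDiagHom_apply]; exact hg' ▸ pow_mem hσH ℓ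
      refine hpure (hall g' (fun hs => ?_) hg'H g)
      let χ : Fˣ →* Multiplicative (ZMod 2) :=
        { toFun := fun x => if IsSquare x then 1 else Multiplicative.ofAdd 1
          map_one' := if_pos IsSquare.one
          map_mul' := fun x y => by
            by_cases hx : IsSquare x <;> by_cases hy : IsSquare y
            · simp [hx, hy, hx.mul hy]
            · have : ¬ IsSquare (x * y) := fun h => hy (by
                have := hx.inv.mul h; rwa [inv_mul_cancel_left] at this)
              simp [hx, hy, this]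
            · have : ¬ IsSquare (x * y) := fun h => hx (by
                have := h.mul hy.inv; rwa [mul_inv_cancel_right] at this)
              simp [hx, hy, this]
            · have hy' : ¬ IsSquare y⁻¹ := fun h => hy (inv_inv y ▸ h.inv)
              have := hsq x y⁻¹ hx hy'
              rw [inv_inv] at this
              simp only [hx, hy, this, if_true, if_false]
              decide }
      have h := hχ (Or.inr trivial) χ (fun x => by
        show (if _ then _ else _) = (if _ then _ else _)
        simp only [isSquare_map σ])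
      have e1 : χ (Matrix.GeneralLinearGroup.det g') = 1 := if_pos hs
      have e2 : χ (Matrix.GeneralLinearGroup.det g) = Multiplicative.ofAdd 1 := if_neg hgsq
      rw [e1, e2] at h
      obtain ⟨k, rfl⟩ := hℓodd
      rw [pow_succ, pow_mul, show (Multiplicative.ofAdd (1 : ZMod 2)) ^ 2 = 1 by decide, one_pow,
        one_mul] at h
      exact absurd h (by decide)
    subst hℓ2
    have hσσ : ∀ x, σ (σ x) = x := fun x => by
      have := RingEquiv.congr_fun hσℓ x
      rwa [pow_two] at this
    have hnu : ¬ IsSquare ν := fun hνs => hgsq <| by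
      rcases hor (Matrix.GeneralLinearGroup.det g) with h | h
      · exact h
      · have := h.mul hνs.inv; rwa [mul_inv_cancel_right] at this
    have hodd : (2 : F) ≠ 0 := by
      intro h2
      refine hnu ?_
      have hinj : Function.Injective (fun x : Fˣ => x * x) := fun x y e => Units.ext (by
        have e' : (x : F) * x = y * y := congrArg Units.val e
        have : ((x : F) - y) * ((x : F) - y) = 0 := by
          linear_combination e' + ((y : F) * y - x * y) * h2
        rcases mul_eq_zero.1 this with h | h <;> exact sub_eq_zero.1 h)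
      obtain ⟨x, hx⟩ := Finite.injective_iff_surjective.1 hinj ν
      exact ⟨x, hx.symm⟩
    set σu := Units.map (σ : F →* F) with hσu
    set N : Fˣ := ν * σu ν with hN
    have hNsq : IsSquare N := by
      have := hsq ν (σu ν)⁻¹ hnu (fun h => hnu ((isSquare_map σ).1 (inv_inv (σu ν) ▸ h.inv)))
      rwa [inv_inv] at this
    have hNfix : σu N = N := by
      rw [hN, map_mul, show σu (σu ν) = ν from Units.ext (hσσ ν), mul_comm]
    -- the twisted element
    have heH : semiAut (dg ν) σ ∈ H := by
      have h1 : innDiagHom 2 F (dg ν * g⁻¹) ∈ H := hinH _ (by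
        rw [map_mul, map_inv, det_dg]; exact hsq _ _ hnu hgsq)
      have h := mul_mem h1 hσH
      rwa [innDiagHom_apply, semiAut_mul, glMap_refl, inv_mul_cancel_right] at h
    set e : ↥H := ⟨semiAut (dg ν) σ, heH⟩ with he
    have hee : ((e * e : ↥H) : MulAut (P F)) = innDiagHom 2 F (dg N) := by
      show semiAut (dg ν) σ * semiAut (dg ν) σ = _
      rw [semiAut_mul, glMap_dg, ← map_mul, innDiagHom_apply,
        show σ.trans σ = RingEquiv.refl F from RingEquiv.ext hσσ]
    have heej : ∀ j : ℤ, (((e * e) ^ j : ↥H) : MulAut (P F)) = innDiagHom 2 F (dg (N ^ j)) := fun j => by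
      rw [SubgroupClass.coe_zpow, hee, map_zpow, map_zpow]
    -- `-1` is a power of `N`
    obtain ⟨j₀, hj₀⟩ : ∃ j : ℤ, N ^ j = -1 := by
      rcases Nat.even_or_odd (orderOf N) with ⟨m, hm⟩ | ⟨m, hm⟩
      · refine ⟨m, ?_⟩
        have hm0 : 0 < m := by have := orderOf_pos N; omega
        have h1 : (N ^ m) * (N ^ m) = 1 := by rw [← pow_add, ← hm, pow_orderOf_eq_one]
        have h2 : N ^ m ≠ 1 := fun h => by
          have := Nat.le_of_dvd hm0 (orderOf_dvd_of_pow_eq_one h); omega
        rw [zpow_natCast]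
        have h1' : ((N ^ m : Fˣ) : F) * (N ^ m : Fˣ) = 1 := congrArg Units.val h1
        rcases mul_self_eq_one_iff.1 h1' with h | h
        · exact absurd (Units.ext h) h2
        · exact Units.ext h
      · exfalso
        refine hnu ?_
        have hx : σ ((N ^ m * ν : Fˣ) : F) * (N ^ m * ν : Fˣ) = 1 := by
          have h1 : σu (N ^ m * ν) * (N ^ m * ν) = 1 := by
            rw [map_mul, map_pow, hNfix, mul_mul_mul_comm, ← pow_add, mul_comm (σu ν), ← hN,
              ← pow_succ, show m + m + 1 = 2 * m + 1 by ring, ← hm, pow_orderOf_eq_one]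
          exact congrArg Units.val h1
        have := ((hNsq.pow m).inv).mul (isSquare_of_norm_one hodd hσ hσσ hsq hx)
        rwa [inv_mul_cancel_left] at this
    set t : ↥H := (e * e) ^ j₀ with ht
    have htv : (t : MulAut (P F)) = innDiagHom 2 F (dg (-1)) := by rw [ht, heej, hj₀]
    have htinv : Inv t := by
      refine ⟨Subtype.ext ?_, fun h => ?_⟩
      · rw [Subgroup.coe_mul, htv, ← map_mul, ← map_mul, neg_one_mul, neg_neg, map_one, map_one]
        rfl
      · have h' : innDiagHom 2 F (dg (-1)) = innDiagHom 2 F 1 := by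
          rw [← htv, h, map_one]; rfl
        obtain ⟨c, hc⟩ := innDiag_eq h'
        have h00 := congrFun (congrFun hc 0) 0
        have h11 := congrFun (congrFun hc 1) 1
        simp [dg] at h00 h11
        rw [← h11] at h00
        exact hodd (by linear_combination -h00)
    have htmem : t ∈ Subgroup.zpowers e :=
      Subgroup.zpow_mem _ (mul_mem (Subgroup.mem_zpowers e) (Subgroup.mem_zpowers e)) _
    set w : ↥H := ⟨inn wy, hinn wy⟩ with hw
    have hwt : Commute w t := Subtype.ext (by
      show inn wy * (t : MulAut (P F)) = (t : MulAut (P F)) * inn wy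
      rw [htv, inn, MonoidHom.comp_apply, ← map_mul, ← map_mul, ← mul_inv_eq_one, ← map_inv,
        ← map_mul]
      refine semiAut_scalar (c := -1) ?_
      rw [Units.val_mul]
      refine (Units.mul_inv_eq_iff_eq_mul _).2 ?_
      rw [Units.val_mul, coe_toGL_wy, coe_dg]
      ext i j; fin_cases i <;> fin_cases j <;> simp [Matrix.mul_fin_two, coe_toGL_wy, coe_wy, coe_dg])
    obtain ⟨i, hi⟩ := Subgroup.mem_zpowers_iff.1 (hH.conj_mem htinv htmem hwt)
    have hi' : semiAut (Matrix.SpecialLinearGroup.toGL wy * dg ν) σ =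
        ((e ^ i : ↥H) : MulAut (P F)) * inn wy := by
      rw [hi]
      show _ = inn wy * semiAut (dg ν) σ * (inn wy)⁻¹ * inn wy
      rw [inv_mul_cancel_right, inn_apply, semiAut_mul, glMap_refl]
      rfl
    obtain ⟨k, hk | hk⟩ := Int.even_or_odd' i
    · rw [hk, zpow_mul, zpow_two, heej, innDiagHom_apply, inn_apply, semiAut_mul] at hi'
      exact hσ (semiAut_eq_semiAut le_rfl hi').1
    · rw [hk, zpow_add_one, zpow_mul, zpow_two, Subgroup.coe_mul, heej, innDiagHom_apply, inn_apply,
        he, semiAut_mul, semiAut_mul, glMap_refl, ← map_mul] at hi'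
      obtain ⟨c, hc⟩ := innDiag_eq (semiAut_eq_semiAut le_rfl hi').2
      have h01 := congrFun (congrFun hc 0) 1
      have h10 := congrFun (congrFun hc 1) 0
      rw [Units.val_mul, Units.val_mul, coe_glMap, coe_toGL_wy, coe_dg, coe_dg,
        (show ∀ τ : F ≃+* F, (!![0, 1; -1, 0] : Matrix (Fin 2) (Fin 2) F).map τ = !![0, 1; -1, 0] by
          intro τ; ext i j; fin_cases i <;> fin_cases j <;> simp) _] at h01 h10
      simp [Matrix.mul_fin_two] at h01 h10
      rw [← h10] at h01
      have hνν : σu (ν * ν) = ν * ν := by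
        have e1 : ν * ν = (N ^ k)⁻¹ := by
          refine eq_inv_of_mul_eq_one_right (Units.ext ?_)
          simp only [Units.val_mul, Units.val_one, Units.val_zpow_eq_zpow_val]
          linear_combination -h01
        rw [e1, map_inv, map_zpow, hNfix]
      refine hσ (RingEquiv.ext fun y => ?_)
      show σ y = y
      have hpm : ∀ y : F, σ y = y ∨ σ y = -y := fun y => by
        by_cases hy : y = 0
        · left; rw [hy, map_zero]
        obtain ⟨i, hi⟩ := Subgroup.mem_zpowers_iff.1 (hν (Units.mk0 y hy))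
        have h : σu (Units.mk0 y hy * Units.mk0 y hy) = Units.mk0 y hy * Units.mk0 y hy := by
          rw [← hi, ← mul_zpow, map_zpow, hνν]
        have h' : σ (y * y) = y * y := congrArg Units.val h
        rw [map_mul] at h'
        exact mul_self_eq_mul_self_iff.1 h'
      rcases hpm y with h | h
      · exact h
      rcases hpm (y + 1) with h' | h'
      all_goals rw [map_add, map_one, h] at h'
      · have hy : y = 0 := by
          have : (2 : F) * y = 0 := by linear_combination -h'
          exact (mul_eq_zero.1 this).resolve_left hodd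
        rw [hy, map_zero]
      · exact absurd (by linear_combination h' : (2 : F) = 0) hodd
  have hsub : H ≤ (innDiagHom 2 F).range := fun β hβ => by
    obtain ⟨g, σ, rfl⟩ := exists_semi_two β
    obtain rfl := hnofield g σ hβ
    exact ⟨g, rfl⟩
  by_cases h : ∃ g₀ : GL (Fin 2) F, ¬ IsSquare (Matrix.GeneralLinearGroup.det g₀) ∧
      innDiagHom 2 F g₀ ∈ H
  · obtain ⟨g₀, h0, h0H⟩ := h
    exact Or.inr (le_antisymm hsub (by rintro _ ⟨g, rfl⟩; exact hall g₀ h0 h0H g))
  · refine Or.inl (le_antisymm (fun β hβ => ?_) (by rintro _ ⟨s, rfl⟩; exact hinn s))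
    obtain ⟨g, rfl⟩ := hsub hβ
    exact hin g (by by_contra hg; exact h ⟨g, hg, hβ⟩)

end PSLAut

end CfsgLib.NormCyclic
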