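import Cfsg.Agent.NormCyclic.Simple
import Cfsg.Agent.NormCyclic.PSLAut
import Cfsg.Agent.Classical.SmallPSL
import Cfsg.Agent.KGroup.SmallOrder
import Cfsg.Agent.S0494
import Cfsg.Agent.Perm.MinimalNormal

/-!
# S3730: recognition of `PSL(2, q)` and `PGL(2, q)` by normalisers

The minimal normal subgroup is simple, hence some `PSL(2, q)`, and the group lies in its
automorphism group.
-/

set_option autoImplicit false
set_option linter.style.haveILetI false
set_option linter.unusedSectionVars false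

namespace CfsgLib.NormCyclic

open Subgroup

universe u v

variable {G : Type u} [Group G] [Finite G]

theorem Hyp.of_mulEquiv {K : Type v} [Group K] (hG : Hyp G) (e : G ≃* K) : Hyp K := by
  intro X hX hev Y hY hY0
  have hmap : ∀ Z : Subgroup K, (Z.map e.symm.toMonoidHom).map e.toMonoidHom = Z := fun Z => by
    ext x; simp [Subgroup.mem_map_equiv]
  have hcyc : IsCyclic ↥(X.map e.symm.toMonoidHom) := by
    haveI := hX
    exact isCyclic_of_surjective _
      (X.equivMapOfInjective e.symm.toMonoidHom e.symm.injective).surjective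
  have hcard : Nat.card (X.map e.symm.toMonoidHom) = Nat.card X :=
    card_map_of_injective (f := e.symm.toMonoidHom) e.symm.injective
  have h := hG _ hcyc (hcard.symm ▸ hev) (Y.map e.symm.toMonoidHom) (map_mono hY)
    (fun h => hY0 ((map_eq_bot_iff_of_injective _ e.symm.injective).1 h))
  have h' := congrArg (fun Z : Subgroup G => Z.map e.toMonoidHom) h
  simp only [map_equiv_normalizer_eq, hmap] at h'
  exact h'

/-- A nonsolvable subgroup has a nontrivial element of odd order. -/
theorem exists_odd_elt (H : Subgroup G) (hH : ¬ Group.IsSolvable H) :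
    ∃ y ∈ H, y ≠ 1 ∧ Odd (orderOf y) := by
  by_contra h
  push Not at h
  haveI : Fact (Nat.Prime 2) := ⟨Nat.prime_two⟩
  have hp : IsPGroup 2 H := by
    intro x
    obtain ⟨k, m, hm, he⟩ := Nat.exists_eq_two_pow_mul_odd (orderOf_pos (x : G)).ne'
    refine ⟨k, Subtype.ext ?_⟩
    rw [SubgroupClass.coe_pow, Subgroup.coe_one]
    by_contra hne
    refine h _ (pow_mem x.2 _) hne ?_
    rw [orderOf_pow, he, Nat.gcd_eq_right (dvd_mul_right _ _),
      Nat.mul_div_cancel_left _ (by positivity)]
    exact hm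
  haveI := hp.isNilpotent
  exact hH inferInstance

/-- A nonsolvable subgroup has an involution. -/
theorem exists_inv (hFT : ∀ H : Subgroup G, Odd (Nat.card H) → Group.IsSolvable H) (H : Subgroup G)
    (hH : ¬ Group.IsSolvable H) : ∃ t ∈ H, Inv t := by
  haveI : Fact (Nat.Prime 2) := ⟨Nat.prime_two⟩
  have hev : 2 ∣ Nat.card H := even_iff_two_dvd.1
    (Nat.not_odd_iff_even.1 fun h => hH (hFT H h))
  obtain ⟨x, hx⟩ := exists_prime_orderOf_dvd_card' 2 hev
  exact ⟨x, x.2, Inv.of_orderOf (by rw [Subgroup.orderOf_coe, hx])⟩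

/-- A simple nonabelian subgroup commutes with no nonsolvable subgroup. -/
theorem Hyp.solvable_of_commute (hG : Hyp G)
    (hFT : ∀ H : Subgroup G, Odd (Nat.card H) → Group.IsSolvable H) (A B : Subgroup G) [IsSimpleGroup A]
    (hA : ¬ IsMulCommutative A) (hB : B ≤ centralizer (A : Set G)) : Group.IsSolvable B := by
  by_contra hBs
  have hAs : ¬ Group.IsSolvable A := fun h => hA ⟨⟨IsSimpleGroup.comm_iff_isSolvable.2 h⟩⟩
  obtain ⟨t, htA, ht⟩ := exists_inv hFT A hAs
  obtain ⟨y, hyB, hy1, hy⟩ := exists_odd_elt B hBs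
  have hcy : ∀ a ∈ A, Commute a y := fun a ha => mem_centralizer_iff.1 (hB hyB) a ha
  have hle := hG.odd_centralizer_le ht hy hy1 (hcy t htA).symm
  have htc : (⟨t, htA⟩ : A) ∈ center A := mem_center_iff.2 fun a => Subtype.ext
    (mem_centralizer_singleton_iff.1 (hle (mem_centralizer_singleton_iff.2 (hcy a a.2).eq)))
  rcases (inferInstance : (center A).Normal).eq_bot_or_eq_top with h | h
  · rw [h, mem_bot] at htc
    exact ht.2 (congrArg Subtype.val htc)
  · exact hA ⟨⟨fun a b => mem_center_iff.1 (show b ∈ center A by rw [h]; exact mem_top b) a⟩⟩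

/-- The minimal normal subgroup is simple with trivial centraliser. -/
theorem Hyp.exists_simple (hG : Hyp G)
    (hFT : ∀ H : Subgroup G, Odd (Nat.card H) → Group.IsSolvable H) [Nontrivial G]
    (hss : ∀ N : Subgroup G, N.Normal → Group.IsSolvable ↥N → N = ⊥) :
    ∃ M : Subgroup G, M.Normal ∧ IsSimpleGroup M ∧ ¬ IsMulCommutative M ∧
      centralizer (M : Set G) = ⊥ := by
  classical
  haveI : Fintype (Subgroup G) := Fintype.ofFinite _
  obtain ⟨M, hMQ, hMmin⟩ := Finset.exists_min_image
    (Finset.univ.filter fun K : Subgroup G => K.Normal ∧ K ≠ ⊥) (fun K : Subgroup G => Nat.card K)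
    ⟨⊤, by simp⟩
  simp only [Finset.mem_filter, Finset.mem_univ, true_and] at hMQ hMmin
  obtain ⟨hMn, hM0⟩ := hMQ
  haveI := hMn
  have hmin : ∀ K : Subgroup G, K.Normal → K ≤ M → K = ⊥ ∨ K = M := fun K hK hKM =>
    (em (K = ⊥)).imp_right fun h => eq_of_le_of_card_ge hKM (hMmin K ⟨hK, h⟩)
  have hMna : ¬ IsMulCommutative M := fun h => by
    haveI := h
    exact hM0 (hss M hMn (Group.isSolvable_of_comm fun a b => h.is_comm.comm a b))
  obtain ⟨T, hT⟩ := CfsgLib.ExtPrim.exists_isFactor M hM0 hmin hMna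
  haveI := hT.simple
  have hoth : CfsgLib.ExtPrim.others T = ⊥ := by
    refine le_bot_iff.1 (iSup₂_le fun g hg => ?_)
    exfalso
    have hs := hG.solvable_of_commute hFT T (CfsgLib.ExtPrim.cj g T) hT.nonab
      ((CfsgLib.ExtPrim.cj_le_others hg).trans hT.others_comm)
    haveI : IsSimpleGroup (CfsgLib.ExtPrim.cj g T) := by
      exact CfsgLib.MinimalNormal.isSimpleGroup_iff_of_mulEquiv
        (T.equivMapOfInjective (MulAut.conj g).toMonoidHom (MulAut.conj g).injective)
    refine hT.nonab ⟨⟨fun a b =>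
      (T.equivMapOfInjective (MulAut.conj g).toMonoidHom (MulAut.conj g).injective).injective ?_⟩⟩
    rw [map_mul, map_mul]
    exact IsSimpleGroup.comm_iff_isSolvable.2 hs _ _
  have hTM : T = M := by rw [← hT.sup_others, hoth, sup_bot_eq]
  subst hTM
  refine ⟨T, hMn, hT.simple, hT.nonab, hss _ inferInstance ?_⟩
  exact hG.solvable_of_commute hFT T _ hT.nonab le_rfl

theorem three_lt_card {F : Type} [Field F] [Fintype F]
    [IsSimpleGroup (Matrix.ProjectiveSpecialLinearGroup (Fin 2) F)]
    (h : ¬ IsMulCommutative (Matrix.ProjectiveSpecialLinearGroup (Fin 2) F)) :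
    3 < Fintype.card F := by
  by_contra hle
  have h1 := Fintype.one_lt_card (α := F)
  obtain h2 | h3 : Fintype.card F = 2 ∨ Fintype.card F = 3 := by omega
  · have hc := CfsgLib.Linear.Small.card_psl_two h2
    norm_num [-Nat.card_eq_fintype_card] at hc
    exact CfsgLib.SmallOrder.false_of_two_primes h 2 3 1 1 Nat.prime_two Nat.prime_three (by omega)
  · have hc := CfsgLib.Linear.Small.card_psl_two h3
    norm_num [-Nat.card_eq_fintype_card] at hc
    exact CfsgLib.SmallOrder.false_of_two_primes h 2 3 2 1 Nat.prime_two Nat.prime_three (by omega)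

/-- Replace the field with four elements by the one with five. -/
theorem exists_field_ne_four {M : Type u} [Group M] [Finite M] [IsSimpleGroup M]
    (hna : ¬ IsMulCommutative M) {F : Type} [iF : Field F] [iFt : Fintype F]
    (e : M ≃* Matrix.ProjectiveSpecialLinearGroup (Fin 2) F) :
    ∃ (K : Type) (_ : Field K) (_ : Fintype K), 3 < Fintype.card K ∧ Fintype.card K ≠ 4 ∧
      Nonempty (M ≃* Matrix.ProjectiveSpecialLinearGroup (Fin 2) K) := by
  haveI : IsSimpleGroup (Matrix.ProjectiveSpecialLinearGroup (Fin 2) F) :=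
    CfsgLib.MinimalNormal.isSimpleGroup_iff_of_mulEquiv e
  have hna' : ¬ IsMulCommutative (Matrix.ProjectiveSpecialLinearGroup (Fin 2) F) := fun h =>
    hna ⟨⟨fun a b => e.injective (by rw [map_mul, map_mul]; exact h.is_comm.comm _ _)⟩⟩
  have h3 := three_lt_card hna'
  by_cases h4 : Fintype.card F = 4
  · have hc := CfsgLib.Linear.Small.card_psl_two h4
    norm_num [-Nat.card_eq_fintype_card] at hc
    haveI : Fact (Nat.Prime 5) := ⟨by norm_num⟩
    obtain ⟨f⟩ := Cfsg.Agent.S0494.result
      (G := Matrix.ProjectiveSpecialLinearGroup (Fin 2) F) (by omega)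
    obtain ⟨g⟩ := CfsgLib.Linear.Small.nonempty_psl_two_five (F := ZMod 5) (by simp)
    exact ⟨ZMod 5, inferInstance, inferInstance, by simp, by simp, ⟨e.trans (f.trans g.symm)⟩⟩
  · exact ⟨F, iF, iFt, h3, h4, ⟨e⟩⟩

/-- The recognition theorem. -/
theorem Hyp.recognition (hG : Hyp G)
    (hFT : ∀ H : Subgroup G, Odd (Nat.card H) → Group.IsSolvable H) [Nontrivial G]
    (hss : ∀ N : Subgroup G, N.Normal → Group.IsSolvable ↥N → N = ⊥) :
    ∃ (F : Type) (_ : Field F) (_ : Fintype F), 3 < Fintype.card F ∧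
      (Nonempty (G ≃* Matrix.ProjectiveSpecialLinearGroup (Fin 2) F) ∨
        Nonempty (G ≃* Matrix.ProjGenLinGroup (Fin 2) F)) := by
  obtain ⟨M, hMn, hMs, hMna, hMc⟩ := hG.exists_simple hFT hss
  haveI := hMn
  haveI := hMs
  obtain ⟨t, htM, ht⟩ := exists_inv hFT M
    (fun h => hMna ⟨⟨IsSimpleGroup.comm_iff_isSolvable.2 h⟩⟩)
  obtain ⟨F₀, iF₀, iFt₀, ⟨e₀⟩⟩ := (hG.subgroup M).simple_case hMna
    (z := (⟨t, htM⟩ : M)) ⟨Subtype.ext ht.1, fun h => ht.2 (congrArg Subtype.val h)⟩
  obtain ⟨F, iF, iFt, h3, h4, ⟨e⟩⟩ := exists_field_ne_four hMna e₀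
  refine ⟨F, iF, iFt, h3, ?_⟩
  -- the embedding in the automorphism group
  set ι : G →* MulAut (Matrix.ProjectiveSpecialLinearGroup (Fin 2) F) :=
    (MulAut.congr e).toMonoidHom.comp MulAut.conjNormal with hι
  have hιinj : Function.Injective ι := by
    rw [← MonoidHom.ker_eq_bot_iff, eq_bot_iff, ← hMc]
    intro g hg
    rw [mem_centralizer_iff]
    intro m hm
    have h1 : MulAut.conjNormal (H := M) g = 1 :=
      (MulAut.congr e).injective (by rw [map_one]; exact hg)
    have h2 := congrArg Subtype.val (DFunLike.congr_fun h1 (⟨m, hm⟩ : M))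
    rw [MulAut.conjNormal_apply] at h2
    exact (mul_inv_eq_iff_eq_mul.1 h2).symm
  have hconj : ∀ x, MulAut.conj x ∈ ι.range := fun x => by
    refine ⟨(e.symm x : M), MulEquiv.ext fun y => ?_⟩
    show e (MulAut.conjNormal ((e.symm x : M) : G) (e.symm y)) = x * y * x⁻¹
    rw [show MulAut.conjNormal ((e.symm x : M) : G) (e.symm y) = e.symm x * e.symm y * (e.symm x)⁻¹
      from Subtype.ext (MulAut.conjNormal_apply _ _)]
    simp
  have hinn : ∀ s, PSLAut.inn s ∈ ι.range := fun s => by
    rw [PSLAut.inn_apply, CfsgLib.AutPSL.semiAut_toGL]; exact hconj _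
  set eG : G ≃* ι.range := MonoidHom.ofInjective hιinj with heG
  rcases PSLAut.classify (hG.of_mulEquiv eG) hinn (by rwa [Nat.card_eq_fintype_card]) with h | h
  · left
    have hconj' : (PSLAut.inn : Matrix.SpecialLinearGroup (Fin 2) F →* _).range =
        (MulAut.conj : Matrix.ProjectiveSpecialLinearGroup (Fin 2) F →* _).range := by
      refine le_antisymm ?_ ?_
      · rintro _ ⟨s, rfl⟩
        exact ⟨QuotientGroup.mk s, (CfsgLib.AutPSL.semiAut_toGL s).symm⟩
      · rintro _ ⟨x, rfl⟩
        obtain ⟨s, rfl⟩ := QuotientGroup.mk_surjective x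
        exact ⟨s, CfsgLib.AutPSL.semiAut_toGL s⟩
    have hinj : Function.Injective
        (MulAut.conj : Matrix.ProjectiveSpecialLinearGroup (Fin 2) F →* _) := by
      intro x y hxy
      have hz : x * y⁻¹ ∈ center _ := mem_center_iff.2 fun a => by
        have := DFunLike.congr_fun hxy (y⁻¹ * a * y)
        simp only [MulAut.conj_apply] at this
        rw [show y * (y⁻¹ * a * y) * y⁻¹ = a by group,
          show x * (y⁻¹ * a * y) * x⁻¹ = (x * y⁻¹) * a * (x * y⁻¹)⁻¹ by group] at this
        exact (mul_inv_eq_iff_eq_mul.1 this).symm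
      haveI : IsSimpleGroup (Matrix.ProjectiveSpecialLinearGroup (Fin 2) F) :=
        CfsgLib.MinimalNormal.isSimpleGroup_iff_of_mulEquiv e
      rcases (inferInstance : (center (Matrix.ProjectiveSpecialLinearGroup (Fin 2) F)).Normal
          ).eq_bot_or_eq_top with h' | h'
      · exact mul_inv_eq_one.1 (mem_bot.1 (h' ▸ hz))
      · exact absurd ⟨⟨fun a b => e.injective (by
          rw [map_mul, map_mul]; exact mem_center_iff.1 (h' ▸ mem_top (e b)) (e a))⟩⟩ hMna
    exact ⟨eG.trans ((MulEquiv.subgroupCongr (h.trans hconj')).trans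
      (MonoidHom.ofInjective hinj).symm)⟩
  · right
    have hker : (CfsgLib.AutPSL.innDiagHom 2 F).ker = center (GL (Fin 2) F) := by
      refine le_antisymm (fun g hg => ?_) (fun g hg => ?_)
      · obtain ⟨-, c, hc⟩ := CfsgLib.AutPSL.semiAut_eq_one le_rfl
          (show CfsgLib.AutPSL.semiAut g (RingEquiv.refl F) = 1 from hg)
        refine mem_center_iff.2 fun x => Units.ext ?_
        rw [Units.val_mul, Units.val_mul, hc]
        simp
      · rw [Matrix.GeneralLinearGroup.center_eq_range_scalar] at hg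
        obtain ⟨c, rfl⟩ := hg
        refine CfsgLib.AutPSL.semiAut_scalar (c := (c : F)) ?_
        rw [Matrix.smul_one_eq_diagonal]
        rfl
    exact ⟨eG.trans ((MulEquiv.subgroupCongr h).trans
      ((QuotientGroup.quotientMulEquivOfEq hker.symm).trans
        (QuotientGroup.quotientKerEquivRange _)).symm)⟩

end CfsgLib.NormCyclic
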