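import Cfsg.Agent.FGSB.Hamiltonian
import Cfsg.Agent.Solvable.Basics
import Cfsg.Agent.Invol.Isolated
import Cfsg.Agent.ZStar.Final

/-!
# Groups in which cyclic subgroups of even order share normalisers with their subgroups

Basic consequences of the hypothesis of S3730: if `X` is cyclic of even order and `1 < Y ≤ X`, then
`N(X) = N(Y)`.
-/

set_option autoImplicit false
set_option linter.style.haveILetI false
set_option linter.unusedSectionVars false

namespace CfsgLib.NormCyclic

open Subgroup

universe u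

variable {G : Type u} [Group G]

/-- Every nontrivial subgroup of a cyclic subgroup of even order has the same normaliser. -/
def Hyp (G : Type u) [Group G] : Prop :=
  ∀ X : Subgroup G, IsCyclic ↥X → Even (Nat.card ↥X) → ∀ Y : Subgroup G, Y ≤ X → Y ≠ ⊥ →
    normalizer (X : Set G) = normalizer (Y : Set G)

/-- `t` is an involution. -/
def Inv (t : G) : Prop := t * t = 1 ∧ t ≠ 1

/-- `a` is a square root of the involution `t`. -/
def Root (a t : G) : Prop := a * a = t ∧ Inv t

theorem Inv.orderOf {t : G} (h : Inv t) : orderOf t = 2 :=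
  orderOf_eq_prime (by rw [pow_two, h.1]) h.2

theorem Inv.of_orderOf {t : G} (h : _root_.orderOf t = 2) : Inv t :=
  ⟨by rw [← pow_two, ← h, pow_orderOf_eq_one], fun e => by rw [e, orderOf_one] at h; omega⟩

theorem Inv.inv_eq {t : G} (h : Inv t) : t⁻¹ = t := inv_eq_of_mul_eq_one_right h.1

theorem Inv.conj {t : G} (h : Inv t) (g : G) : Inv (g * t * g⁻¹) :=
  ⟨by rw [conj_mul, h.1, mul_one, mul_inv_cancel], fun e => h.2 (conj_eq_one_iff.1 e)⟩

theorem Inv.mul {t u : G} (ht : Inv t) (hu : Inv u) (hc : Commute t u) (hne : t ≠ u) : Inv (t * u) := by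
  refine ⟨?_, fun e => hne ?_⟩
  · rw [mul_assoc, ← mul_assoc u, ← hc.eq, mul_assoc t u u, hu.1, mul_one, ht.1]
  · rw [eq_inv_of_mul_eq_one_left e, hu.inv_eq]

theorem inj_of_mul_eq {a t : G} (h : a * a = t) : Commute a t := by
  subst h; exact (Commute.refl a).mul_right (Commute.refl a)

namespace Root

variable {a t : G} (h : Root a t)
include h

theorem comm : Commute a t := inj_of_mul_eq h.1

theorem inv_t : Inv t := h.2

theorem ne_one : a ≠ 1 := fun e => h.2.2 (by rw [← h.1, e, one_mul])

theorem ne_t : a ≠ t := fun e => by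
  have := h.1
  rw [e, h.2.1] at this
  exact h.2.2 this.symm

theorem pow_four : a ^ 4 = 1 := by
  rw [show a ^ 4 = (a * a) * (a * a) by simp [pow_succ, mul_assoc], h.1, h.2.1]

theorem inv_eq : a⁻¹ = a * t := by
  refine inv_eq_of_mul_eq_one_right ?_
  rw [← mul_assoc, h.1, h.2.1]

theorem ne_inv : a⁻¹ ≠ a := fun e => h.2.2 (by
  rw [← h.1]; nth_rw 1 [← e]; exact inv_mul_cancel a)

theorem conj (g : G) : Root (g * a * g⁻¹) (g * t * g⁻¹) :=
  ⟨by rw [conj_mul, h.1], h.2.conj g⟩

theorem inv_root : Root a⁻¹ t := ⟨by rw [← mul_inv_rev, h.1, h.2.inv_eq], h.2⟩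

theorem t_mem : t ∈ zpowers a := h.1 ▸ mul_mem (mem_zpowers a) (mem_zpowers a)

theorem mem_cases {x : G} (hx : x ∈ zpowers a) : x = 1 ∨ x = a ∨ x = t ∨ x = a⁻¹ := by
  obtain ⟨i, rfl⟩ := mem_zpowers_iff.1 hx
  have h4 : a ^ i = a ^ (i % 4) := by
    exact_mod_cast zpow_eq_zpow_emod' i h.pow_four
  rw [h4]
  have h0 := Int.emod_nonneg i (show (4 : ℤ) ≠ 0 by norm_num)
  have h1 := Int.emod_lt_of_pos i (show (0 : ℤ) < 4 by norm_num)
  obtain h | h | h | h : i % 4 = 0 ∨ i % 4 = 1 ∨ i % 4 = 2 ∨ i % 4 = 3 := by omega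
  all_goals rw [h]
  · exact Or.inl (zpow_zero a)
  · exact Or.inr (Or.inl (zpow_one a))
  · exact Or.inr (Or.inr (Or.inl (by rw [zpow_two]; exact ‹Root a t›.1)))
  · refine Or.inr (Or.inr (Or.inr (eq_inv_of_mul_eq_one_left ?_)))
    rw [← zpow_add_one]; exact (zpow_natCast a 4).trans ‹Root a t›.pow_four

theorem sq_eq_one_cases {x : G} (hx : x ∈ zpowers a) (hxx : x * x = t) : x = a ∨ x = a⁻¹ := by
  rcases h.mem_cases hx with e | e | e | e
  · rw [e, one_mul] at hxx; exact absurd hxx.symm h.2.2
  · exact Or.inl e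
  · rw [e, h.2.1] at hxx; exact absurd hxx.symm h.2.2
  · exact Or.inr e

end Root

theorem normalizer_zpowers_of_inv {t : G} (ht : Inv t) :
    normalizer (zpowers t : Set G) = centralizer ({t} : Set G) := by
  have hmem : ∀ x : G, x ∈ zpowers t → x = 1 ∨ x = t := by
    intro x hx
    obtain ⟨i, rfl⟩ := mem_zpowers_iff.1 hx
    rw [← zpow_mod_orderOf, ht.orderOf]
    rcases Int.emod_two_eq_zero_or_one i with h | h
    · exact Or.inl (by simp [h])
    · exact Or.inr (by simp [h])
  refine le_antisymm (fun g hg => ?_) ((centralizer_le_normalizer (zpowers t : Set G)).trans' ?_)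
  · rcases hmem _ ((mem_normalizer_iff.1 hg t).1 (mem_zpowers t)) with h | h
    · exact absurd (conj_eq_one_iff.1 h) ht.2
    · exact mem_centralizer_singleton_iff.2 (mul_inv_eq_iff_eq_mul.1 h)
  · intro g hg
    refine mem_centralizer_iff.2 fun x hx => ?_
    rcases hmem x hx with rfl | rfl
    · simp
    · exact (mem_centralizer_singleton_iff.1 hg).symm

variable [Finite G]

theorem Hyp.normalizer_eq (hG : Hyp G) {t x y : G} (ht : Inv t) (htx : t ∈ zpowers x)
    (hyx : y ∈ zpowers x) (hy : y ≠ 1) :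
    normalizer (zpowers y : Set G) = centralizer ({t} : Set G) := by
  have hev : Even (Nat.card (zpowers x)) := even_iff_two_dvd.2
    (ht.orderOf ▸ Subgroup.orderOf_dvd_natCard _ htx)
  rw [← hG _ inferInstance hev _ (zpowers_le.2 hyx) (zpowers_ne_bot.2 hy),
    hG _ inferInstance hev _ (zpowers_le.2 htx) (zpowers_ne_bot.2 ht.2), normalizer_zpowers_of_inv ht]

/-- A centraliser element of `t` normalises every cyclic subgroup through `t`. -/
theorem Hyp.conj_mem (hG : Hyp G) {t x c : G} (ht : Inv t) (htx : t ∈ zpowers x)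
    (hc : Commute c t) : c * x * c⁻¹ ∈ zpowers x := by
  have hx1 : x ≠ 1 := fun e => ht.2 (by rw [e, zpowers_one_eq_bot, mem_bot] at htx; exact htx)
  have h : c ∈ normalizer (zpowers x : Set G) := by
    rw [hG.normalizer_eq ht htx (mem_zpowers x) hx1]
    exact mem_centralizer_singleton_iff.2 hc.eq
  exact (mem_normalizer_iff.1 h x).1 (mem_zpowers x)

/-- An element of odd order and a commuting involution generate a cyclic group. -/
theorem mem_zpowers_mul {t y : G} (ht : Inv t) (hy : Odd (orderOf y)) (hc : Commute y t) :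
    t ∈ zpowers (y * t) ∧ y ∈ zpowers (y * t) := by
  obtain ⟨m, hm⟩ := hy
  have hy' : y ^ (2 * m + 1) = 1 := hm ▸ pow_orderOf_eq_one y
  have ht2 : t ^ 2 = 1 := by rw [pow_two, ht.1]
  refine ⟨mem_zpowers_iff.2 ⟨(2 * m + 1 : ℕ), ?_⟩, mem_zpowers_iff.2 ⟨(2 * m + 2 : ℕ), ?_⟩⟩
  · rw [zpow_natCast, hc.mul_pow, hy', one_mul, pow_succ, pow_mul, ht2, one_pow, one_mul]
  · rw [zpow_natCast, hc.mul_pow, pow_succ, hy', one_mul, show 2 * m + 2 = 2 * (m + 1) by ring,
      pow_mul, ht2, one_pow, mul_one]

theorem Hyp.odd_normalizer (hG : Hyp G) {t y : G} (ht : Inv t) (hy : Odd (orderOf y)) (hy1 : y ≠ 1)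
    (hc : Commute y t) : normalizer (zpowers y : Set G) = centralizer ({t} : Set G) :=
  let h := mem_zpowers_mul ht hy hc
  hG.normalizer_eq ht h.1 h.2 hy1

theorem Hyp.odd_centralizer_le (hG : Hyp G) {t y : G} (ht : Inv t) (hy : Odd (orderOf y))
    (hy1 : y ≠ 1) (hc : Commute y t) :
    centralizer ({y} : Set G) ≤ centralizer ({t} : Set G) := by
  rw [← hG.odd_normalizer ht hy hy1 hc]
  intro g hg
  refine centralizer_le_normalizer (zpowers y : Set G) (mem_centralizer_iff.2 fun x hx => ?_)
  obtain ⟨i, rfl⟩ := mem_zpowers_iff.1 hx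
  exact (Commute.zpow_right (show Commute g y from mem_centralizer_singleton_iff.1 hg) i).eq.symm

/-- Involutions centralising a common nontrivial element of odd order share their centraliser. -/
theorem Hyp.eq_of_odd (hG : Hyp G) {t u y : G} (ht : Inv t) (hu : Inv u) (hy : Odd (orderOf y))
    (hy1 : y ≠ 1) (hct : Commute y t) (hcu : Commute y u) :
    centralizer ({t} : Set G) = centralizer ({u} : Set G) :=
  (hG.odd_normalizer ht hy hy1 hct).symm.trans (hG.odd_normalizer hu hy hy1 hcu)

theorem Hyp.subgroup (hG : Hyp G) (H : Subgroup G) : Hyp ↥H := by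
  intro X hX hev Y hY hY0
  have hcard : Nat.card (X.map H.subtype) = Nat.card X :=
    card_map_of_injective H.subtype_injective
  have hcyc : IsCyclic ↥(X.map H.subtype) := by
    haveI := hX
    exact isCyclic_of_surjective _ (X.equivMapOfInjective H.subtype H.subtype_injective).surjective
  have h := hG (X.map H.subtype) hcyc (hcard.symm ▸ hev) (Y.map H.subtype) (map_mono hY)
    (fun e => hY0 ((map_eq_bot_iff_of_injective _ H.subtype_injective).1 e))
  have key : ∀ (Z : Subgroup H) (g : H),
      g ∈ normalizer (Z : Set H) ↔ (g : G) ∈ normalizer ((Z.map H.subtype : Subgroup G) : Set G) := by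
    intro Z g
    rw [mem_normalizer_iff, mem_normalizer_iff]
    constructor
    · intro hg x
      by_cases hx : x ∈ H
      · have := hg ⟨x, hx⟩
        constructor
        · rintro ⟨z, hz, rfl⟩
          exact ⟨g * z * g⁻¹, (hg z).1 hz, by simp⟩
        · rintro ⟨z, hz, hzx⟩
          refine ⟨⟨x, hx⟩, this.2 ?_, rfl⟩
          have e : g * ⟨x, hx⟩ * g⁻¹ = z := Subtype.ext (by simpa using hzx.symm)
          rwa [e]
      · constructor
        · rintro ⟨z, -, rfl⟩; exact absurd z.2 hx
        · rintro ⟨z, -, hzx⟩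
          refine absurd ?_ hx
          rw [show x = (g : G)⁻¹ * ((g : G) * x * (g : G)⁻¹) * g by group, ← hzx]
          exact mul_mem (mul_mem (inv_mem g.2) z.2) g.2
    · intro hg x
      have := hg (x : G)
      rw [mem_map_iff_mem H.subtype_injective |>.symm, mem_map_iff_mem H.subtype_injective |>.symm]
      simpa using this
  ext g
  rw [key, key, h]

/-! ### Roots of involutions -/

theorem Hyp.conj_root (hG : Hyp G) {a t c : G} (h : Root a t) (hc : Commute c t) :
    c * a * c⁻¹ = a ∨ c * a * c⁻¹ = a⁻¹ := by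
  refine h.sq_eq_one_cases (hG.conj_mem h.2 h.t_mem hc) ?_
  rw [conj_mul, h.1, hc.eq, mul_inv_cancel_right]

/-- An involution centralising a root of `t` has at most two conjugates under `C(t)`. -/
theorem Hyp.conj_pair (hG : Hyp G) {a t u c : G} (h : Root a t) (hu : Inv u) (hau : Commute a u)
    (hc : Commute c t) : c * u * c⁻¹ = u ∨ c * u * c⁻¹ = u * t := by
  have h2 : Root (a * u) t := ⟨by
    rw [mul_assoc, ← mul_assoc u, ← hau.eq, mul_assoc a u u, hu.1, mul_one, h.1], h.2⟩
  have e : c * u * c⁻¹ = (c * a * c⁻¹)⁻¹ * (c * (a * u) * c⁻¹) := by group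
  have e1 : (a * u)⁻¹ = u * a⁻¹ := by rw [mul_inv_rev, hu.inv_eq]
  have hut : u * a⁻¹ = a⁻¹ * u := (hau.inv_left.symm).eq
  have hta : u * t = t * u := (h.1 ▸ (hau.mul_left hau) : Commute t u).symm.eq
  rcases hG.conj_root h hc with p | p <;> rcases hG.conj_root h2 hc with q | q <;> rw [e, p, q]
  · left; group
  · right; rw [e1, hut, ← mul_assoc, ← mul_inv_rev, h.1, h.2.inv_eq, hta]
  · right; rw [inv_inv, ← mul_assoc, h.1, hta]
  · left; rw [inv_inv, e1, hut, mul_inv_cancel_left]

/-- An element of odd order in `C(t)` centralises every involution centralising a root of `t`. -/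
theorem Hyp.odd_commute (hG : Hyp G) {a t u y : G} (h : Root a t) (hu : Inv u) (hau : Commute a u)
    (hy : Odd (orderOf y)) (hc : Commute y t) : Commute y u := by
  rcases hG.conj_pair h hu hau hc with p | p
  · exact mul_inv_eq_iff_eq_mul.1 p
  · obtain ⟨m, hm⟩ := hy
    have hsq : Commute (y ^ 2) u := by
      refine mul_inv_eq_iff_eq_mul.1 ?_
      rw [show y ^ 2 * u * (y ^ 2)⁻¹ = y * (y * u * y⁻¹) * y⁻¹ by rw [pow_two]; group, p,
        show y * (u * t) * y⁻¹ = (y * u * y⁻¹) * (y * t * y⁻¹) by group, p, hc.eq,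
        mul_inv_cancel_right, mul_assoc, h.2.1, mul_one]
    have : y = (y ^ 2) ^ (m + 1) := by
      rw [← pow_mul, show 2 * (m + 1) = (2 * m + 1) + 1 by ring, pow_succ, ← hm, pow_orderOf_eq_one,
        one_mul]
    rw [this]
    exact hsq.pow_left _

/-- Roots of two commuting involutions, one centralised by a root of the other, commute. -/
theorem Hyp.root_commute (hG : Hyp G) {a b t s : G} (ha : Root a t) (hb : Root b s)
    (hne : t ≠ s) (has : Commute a s) : Commute a b := by
  have htb : Commute t b := by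
    rcases hG.conj_root hb has with p | p
    · have h : Commute a b := mul_inv_eq_iff_eq_mul.1 p
      exact ha.1 ▸ h.mul_left h
    · refine mul_inv_eq_iff_eq_mul.1 ?_
      rw [← ha.1, show a * a * b * (a * a)⁻¹ = a * (a * b * a⁻¹) * a⁻¹ by group, p, ← conj_inv, p,
        inv_inv]
  rcases hG.conj_root ha htb.symm with p | p
  · exact (mul_inv_eq_iff_eq_mul.1 p : Commute b a).symm
  · rcases hG.conj_root hb has with q | q
    · exact mul_inv_eq_iff_eq_mul.1 q
    · exfalso
      refine hne ?_
      have e1 : a * b * a⁻¹ * b⁻¹ = t := by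
        rw [show a * b * a⁻¹ * b⁻¹ = a * (b * a * b⁻¹)⁻¹ by group, p, inv_inv, ha.1]
      rw [q, ← mul_inv_rev, hb.1, hb.2.inv_eq] at e1
      exact e1.symm

/-- All roots of linked involutions commute. -/
theorem Hyp.root_commute' (hG : Hyp G) {a a' b t s : G} (ha : Root a t) (ha' : Root a' t)
    (hb : Root b s) (hne : t ≠ s) (has : Commute a s) : Commute a' s ∧ Commute a' b := by
  have hab := hG.root_commute ha hb hne has
  suffices h : Commute a' s from ⟨h, hG.root_commute ha' hb hne h⟩
  rcases hG.conj_pair ha hb.2 has ha'.comm with p | p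
  · exact mul_inv_eq_iff_eq_mul.1 p
  · exfalso
    have hbt : Commute b t := (ha.1 ▸ hab.mul_left hab : Commute t b).symm
    have hb' : (a' * b * a'⁻¹) * (a' * b * a'⁻¹) = s * t := by rw [conj_mul, hb.1, p]
    rcases hG.conj_root ha' hbt with q | q
    · have h : Commute a' b := (mul_inv_eq_iff_eq_mul.1 q : Commute b a').symm
      rw [h.eq, mul_inv_cancel_right, hb.1] at hb'
      exact ha.2.2 (mul_left_cancel (hb'.symm.trans (mul_one s).symm))
    · have e : a' * b * a'⁻¹ = b * t := by
        have h1 : a' * b = b * a'⁻¹ := by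
          have h2 : b * a' = a'⁻¹ * b := mul_inv_eq_iff_eq_mul.1 q
          calc a' * b = a' * (b * a') * a'⁻¹ := by group
            _ = _ := by rw [h2]; group
        rw [h1, mul_assoc, ← mul_inv_rev, ha'.1, ha.2.inv_eq]
      rw [e, mul_assoc, ← mul_assoc t b t, ← hbt.eq, mul_assoc b t t, ha.2.1, mul_one, hb.1] at hb'
      exact ha.2.2 (mul_left_cancel (hb'.symm.trans (mul_one s).symm))

/-- Roots of a linked involution commute with each other. -/
theorem Hyp.root_commute_same (hG : Hyp G) {a a' b t s : G} (ha : Root a t) (ha' : Root a' t)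
    (hb : Root b s) (hne : t ≠ s) (has : Commute a s) : Commute a a' := by
  have hab := hG.root_commute ha hb hne has
  have hbt : Commute b t := (ha.1 ▸ hab.mul_left hab : Commute t b).symm
  have hst : Commute t s := hb.1 ▸ hbt.symm.mul_right hbt.symm
  have hab2 : Root (a * b) (t * s) :=
    ⟨by rw [hab.symm.mul_mul_mul_comm, ha.1, hb.1], ha.2.mul hb.2 hst hne⟩
  have h1 := (hG.root_commute' ha ha' hab2 (fun e => hb.2.2 ?_)
    (ha.comm.mul_right has)).2
  · have h2 := (hG.root_commute' ha ha' hb hne has).2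
    refine (Commute.symm ?_)
    have := h1.mul_right h2.inv_right
    rwa [mul_inv_cancel_right] at this
  · exact (mul_left_cancel (e.symm.trans (mul_one t).symm))

/-! ### The odd part of the centraliser of an involution -/

/-- The core of the centraliser of `t`. -/
def core (t : G) : Subgroup G :=
  (Cfsg.oddCore (centralizer ({t} : Set G))).map (centralizer ({t} : Set G)).subtype

theorem core_le (t : G) : core t ≤ centralizer ({t} : Set G) := map_subtype_le _

theorem odd_card_core (t : G) : Odd (Nat.card (core t)) := by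
  rw [core, card_map_of_injective (centralizer ({t} : Set G)).subtype_injective]
  exact Nat.coprime_two_right.1
    (CfsgLib.Solvable.coprime_card_pPrimeCore (G := ↥(centralizer ({t} : Set G))) 2)

theorem odd_of_mem_core {t y : G} (hy : y ∈ core t) : Odd (orderOf y) :=
  (odd_card_core t).of_dvd_nat (Subgroup.orderOf_dvd_natCard _ hy)

theorem commute_of_mem_core {t y : G} (hy : y ∈ core t) : Commute y t :=
  mem_centralizer_singleton_iff.1 (core_le t hy)

theorem Hyp.mem_core (hG : Hyp G) {t y : G} (ht : Inv t) (hy : Odd (orderOf y))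
    (hc : Commute y t) : y ∈ core t := by
  by_cases hy1 : y = 1
  · rw [hy1]; exact one_mem _
  have hyC : y ∈ centralizer ({t} : Set G) := mem_centralizer_singleton_iff.2 hc.eq
  haveI hn : (zpowers (⟨y, hyC⟩ : centralizer ({t} : Set G))).Normal := by
    refine ⟨fun x hx c => ?_⟩
    have hcn : (c : G) ∈ normalizer (zpowers y : Set G) := by
      rw [hG.odd_normalizer ht hy hy1 hc]; exact c.2
    have hxy : (x : G) ∈ zpowers y := by
      obtain ⟨i, rfl⟩ := mem_zpowers_iff.1 hx
      exact mem_zpowers_iff.2 ⟨i, by simp⟩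
    obtain ⟨j, hj⟩ := mem_zpowers_iff.1 ((mem_normalizer_iff.1 hcn _).1 hxy)
    exact mem_zpowers_iff.2 ⟨j, Subtype.ext (by simpa using hj)⟩
  refine ⟨⟨y, hyC⟩, ?_, rfl⟩
  have : zpowers (⟨y, hyC⟩ : centralizer ({t} : Set G)) ≤ Cfsg.oddCore _ :=
    le_sSup ⟨hn, by
      rw [Nat.card_zpowers, Subgroup.orderOf_mk]
      exact Nat.coprime_two_right.2 hy⟩
  exact this (mem_zpowers _)

/-- The odd elements of `C(t)` commute with each other. -/
theorem Hyp.core_commute (hG : Hyp G) {t x y : G} (ht : Inv t) (hx : x ∈ core t) (hy : y ∈ core t) :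
    Commute x y := by
  have hcyc : ∀ z : core t, (zpowers z).Normal := by
    intro z
    by_cases hz1 : z = 1
    · rw [hz1, zpowers_one_eq_bot]; infer_instance
    refine ⟨fun w hw c => ?_⟩
    have hcn : (c : G) ∈ normalizer (zpowers (z : G) : Set G) := by
      rw [hG.odd_normalizer ht (odd_of_mem_core z.2) (fun e => hz1 (Subtype.ext e))
        (commute_of_mem_core z.2)]
      exact core_le t c.2
    have hwz : (w : G) ∈ zpowers (z : G) := by
      obtain ⟨i, rfl⟩ := mem_zpowers_iff.1 hw
      exact mem_zpowers_iff.2 ⟨i, by simp⟩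
    obtain ⟨j, hj⟩ := mem_zpowers_iff.1 ((mem_normalizer_iff.1 hcn _).1 hwz)
    exact mem_zpowers_iff.2 ⟨j, Subtype.ext (by simpa using hj)⟩
  have hall : ∀ H : Subgroup (core t), H.Normal := fun H =>
    ⟨fun w hw c => (zpowers_le.2 hw) ((hcyc w).conj_mem w (mem_zpowers w) c)⟩
  have := CfsgLib.Hamiltonian.commute_of_odd hall (x := (⟨x, hx⟩ : core t)) (y := ⟨y, hy⟩)
    (by rw [Subgroup.orderOf_mk]; exact odd_of_mem_core hx)
    (by rw [Subgroup.orderOf_mk]; exact odd_of_mem_core hy)
  exact congrArg Subtype.val this.eq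

/-! ### No isolated involutions -/

/-- In a nonabelian simple group an involution of a Sylow subgroup is fused to another one there. -/
theorem exists_fused [IsSimpleGroup G] (hna : ¬ IsMulCommutative G) (S : Sylow 2 G) {z : G}
    (hz : Inv z) : ∃ g : G, g * z * g⁻¹ ∈ (S : Subgroup G) ∧ g * z * g⁻¹ ≠ z := by
  by_contra h
  push Not at h
  obtain ⟨N, hN, hodd, hcent⟩ := CfsgLib.ZStar.zstar_of_sylow S hz.orderOf h
  rcases hN.eq_bot_or_eq_top with hb | hb
  · have hzc : z ∈ center G := mem_center_iff.2 fun g => by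
      have e := hcent g
      rw [hb, mem_bot, mul_inv_eq_one, mul_inv_eq_iff_eq_mul] at e
      exact e.symm
    rcases (inferInstance : (center G).Normal).eq_bot_or_eq_top with h' | h'
    · exact hz.2 (mem_bot.1 (h' ▸ hzc))
    · exact hna ⟨⟨fun a b => mem_center_iff.1 (h' ▸ mem_top b) a⟩⟩
  · have h2 : orderOf z ∣ Nat.card N := Subgroup.orderOf_dvd_natCard _ (hb ▸ mem_top z)
    rw [hz.orderOf] at h2
    exact Nat.not_even_iff_odd.2 hodd (even_iff_two_dvd.2 h2)

end CfsgLib.NormCyclic
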