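import Cfsg.Agent.NormCyclic.Linked
import Cfsg.Agent.Invol.AbelianFocal
import Cfsg.Agent.CTGroup.Structure
import Cfsg.Agent.HalfTransP.Count
import Cfsg.Agent.S0508

/-!
# Abelian Sylow 2-subgroups

A simple group with `Hyp` and an abelian Sylow `2`-subgroup is `PSL(2, q)` and has no elements of
order four.
-/

set_option autoImplicit false
set_option linter.style.haveILetI false
set_option linter.unusedSectionVars false

namespace CfsgLib.NormCyclic

open Subgroup

universe u

variable {G : Type u} [Group G] [Finite G]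

/-- Every involution has a conjugate in a given Sylow subgroup. -/
theorem exists_conj_mem (T : Sylow 2 G) {v : G} (hv : IsPGroup 2 (zpowers v)) :
    ∃ g : G, g * v * g⁻¹ ∈ (T : Subgroup G) := by
  haveI : Fact (Nat.Prime 2) := ⟨Nat.prime_two⟩
  obtain ⟨S, hS⟩ := hv.exists_le_sylow
  obtain ⟨g, hg⟩ := MulAction.exists_smul_eq G S T
  exact ⟨g, by rw [← hg]; exact ⟨v, hS (mem_zpowers v), rfl⟩⟩

/-- An element of `C(t)` of odd order lies in the core; the rest is a Sylow subgroup. -/
theorem Hyp.centralizer_eq_sup (hG : Hyp G) (T : Sylow 2 G) {s : G} (hs : Inv s)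
    (hT : (T : Subgroup G) ≤ centralizer ({s} : Set G)) :
    centralizer ({s} : Set G) = core s ⊔ (T : Subgroup G) := by
  haveI : Fact (Nat.Prime 2) := ⟨Nat.prime_two⟩
  refine le_antisymm ?_ (sup_le (core_le s) hT)
  set C := centralizer ({s} : Set G) with hC
  set O := Cfsg.oddCore C with hO
  haveI hOn : O.Normal := CfsgLib.Solvable.pPrimeCore_normal (G := ↥C) 2
  have hQ : IsPGroup 2 (C ⧸ O) := by
    intro x
    induction x using QuotientGroup.induction_on with
    | H c =>
      obtain ⟨k, m, hm, he⟩ := Nat.exists_eq_two_pow_mul_odd (orderOf_pos (c : G)).ne'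
      refine ⟨k, ?_⟩
      rw [← QuotientGroup.mk_pow, QuotientGroup.eq_one_iff]
      have hodd : Odd (orderOf ((c : G) ^ 2 ^ k)) := by
        rw [orderOf_pow, he, Nat.gcd_eq_right (dvd_mul_right _ _),
          Nat.mul_div_cancel_left _ (by positivity)]
        exact hm
      obtain ⟨d, hd, hde⟩ := hG.mem_core hs hodd
        (Commute.pow_left (show Commute (c : G) s from mem_centralizer_singleton_iff.1 c.2) _)
      have : c ^ 2 ^ k = d := Subtype.ext (by rw [SubgroupClass.coe_pow]; exact hde.symm)
      rw [this]; exact hd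
  obtain ⟨k, hk⟩ := IsPGroup.iff_card.1 hQ
  have hsub : O ⊔ (T : Subgroup G).subgroupOf C = ⊤ := by
    rw [← index_eq_one]
    refine Nat.eq_one_of_dvd_coprimes (a := 2 ^ k) (b := (T : Subgroup G).index) ?_ ?_ ?_
    · exact (Nat.coprime_two_left.2 (Nat.odd_iff.2 (Nat.two_dvd_ne_zero.1 T.not_dvd_index))).pow_left k
    · rw [← hk, ← index_eq_card]; exact index_dvd_of_le le_sup_left
    · exact (index_dvd_of_le le_sup_right).trans (relIndex_dvd_index_of_le hT)
  intro x hx
  have : (⟨x, hx⟩ : C) ∈ O ⊔ (T : Subgroup G).subgroupOf C := hsub ▸ mem_top _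
  have h := mem_map_of_mem C.subtype this
  rw [Subgroup.map_sup, map_subgroupOf_eq_of_le hT] at h
  exact h

/-- An element of a Sylow subgroup commutes with the odd part of its centralising involution when
its own involution has the same centraliser. -/
theorem Hyp.core_fixed (hG : Hyp G) (T : Sylow 2 G) {s : G} (hs : Inv s)
    (hT : (T : Subgroup G) ≤ centralizer ({s} : Set G))
    (hall : ∀ r ∈ (T : Subgroup G), Inv r → centralizer ({r} : Set G) = centralizer ({s} : Set G))
    {t y : G} (ht : t ∈ (T : Subgroup G)) (hy : y ∈ core s) : Commute t y := by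
  have key : ∀ r ∈ zpowers t, Inv r → Commute t y := by
    intro r hr hri
    have hyr : Commute y r := mem_centralizer_singleton_iff.1
      ((hall r ((zpowers_le.2 ht) hr) hri).symm ▸ core_le s hy)
    have hconj := hG.conj_mem hri hr hyr
    have h1 : t * y * t⁻¹ * y⁻¹ ∈ zpowers t := by
      rw [show t * y * t⁻¹ * y⁻¹ = t * (y * t⁻¹ * y⁻¹) by group, ← conj_inv]
      exact mul_mem (mem_zpowers t) (inv_mem hconj)
    have hts : Commute t s := mem_centralizer_singleton_iff.1 (hT ht)
    have h2 : Odd (orderOf (t * y * t⁻¹ * y⁻¹)) := by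
      refine odd_of_mem_core (t := s) (mul_mem ?_ (inv_mem hy))
      exact hG.mem_core hs (by rw [← MulAut.conj_apply, MulEquiv.orderOf_eq]; exact odd_of_mem_core hy)
        ((hts.mul_left (commute_of_mem_core hy)).mul_left hts.inv_left)
    obtain ⟨k, hk⟩ := twoElt_of_mem T.2 ((zpowers_le.2 ht) h1)
    rw [hk] at h2
    rcases k with _ | k
    · rw [pow_zero, orderOf_eq_one_iff, mul_inv_eq_one] at hk
      exact mul_inv_eq_iff_eq_mul.1 hk
    · exact absurd h2 (by rw [Nat.not_odd_iff_even, pow_succ']; exact even_two_mul _)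
  rcases twoElt_cases (twoElt_of_mem T.2 ht) with e | e | ⟨h, -, w, hw, hr⟩
  · rw [e]; exact Commute.one_left y
  · exact key t (mem_zpowers t) e
  · exact key w hw hr.2

/-- If all involutions of `T` share their centraliser, then it is abelian and contains the
centralisers of its nontrivial elements. -/
theorem Hyp.equal_case (hG : Hyp G) [IsSimpleGroup G] (hna : ¬ IsMulCommutative G) (T : Sylow 2 G)
    [hTc : IsMulCommutative (T : Subgroup G)] {s : G} (hs : Inv s) (hsT : s ∈ (T : Subgroup G))
    (hall : ∀ r ∈ (T : Subgroup G), Inv r → centralizer ({r} : Set G) = centralizer ({s} : Set G)) :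
    (∀ a t : G, ¬ Root a t) ∧ ∃ (F : Type) (_ : Field F) (_ : Fintype F),
      Nonempty (G ≃* Matrix.ProjectiveSpecialLinearGroup (Fin 2) F) := by
  haveI : Fact (Nat.Prime 2) := ⟨Nat.prime_two⟩
  have hTcomm : ∀ x ∈ (T : Subgroup G), ∀ y ∈ (T : Subgroup G), Commute x y := fun x hx y hy =>
    congrArg Subtype.val (hTc.is_comm.comm ⟨x, hx⟩ ⟨y, hy⟩)
  have hT : (T : Subgroup G) ≤ centralizer ({s} : Set G) := fun x hx =>
    mem_centralizer_singleton_iff.2 (hTcomm x hx s hsT).eq
  have heq := hG.centralizer_eq_sup T hs hT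
  have hle : core s ⊔ (T : Subgroup G) ≤ centralizer ((core s ⊔ (T : Subgroup G) : Subgroup G) : Set G) := by
    have hcomm : ∀ x ∈ (core s : Set G) ∪ (T : Subgroup G), ∀ y ∈ (core s : Set G) ∪ (T : Subgroup G),
        Commute x y := by
      rintro x (hx | hx) y (hy | hy)
      · exact hG.core_commute hs hx hy
      · exact (hG.core_fixed T hs hT hall hy hx).symm
      · exact hG.core_fixed T hs hT hall hx hy
      · exact hTcomm x hx y hy
    rw [← closure_eq (core s), ← closure_eq (T : Subgroup G), ← Subgroup.closure_union, closure_le]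
    intro x hx
    rw [centralizer_closure]
    exact mem_centralizer_iff.2 fun y hy => hcomm y hy x hx
  have habel : ∀ a ∈ centralizer ({s} : Set G), ∀ b ∈ centralizer ({s} : Set G), a * b = b * a :=
    fun a ha b hb => mem_centralizer_iff.1 (hle (heq ▸ hb)) a (SetLike.mem_coe.2 (heq ▸ ha))
  have hsub : ∀ x ∈ centralizer ({s} : Set G), x ≠ 1 →
      centralizer ({x} : Set G) = centralizer ({s} : Set G) := by
    intro x hx hx1
    refine le_antisymm ?_ fun c hc => mem_centralizer_singleton_iff.2 (habel c hc x hx)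
    obtain ⟨k, m, hm, he⟩ := Nat.exists_eq_two_pow_mul_odd (orderOf_pos x).ne'
    have hpow : ∀ n : ℕ, centralizer ({x} : Set G) ≤ centralizer ({x ^ n} : Set G) := fun n c hc =>
      mem_centralizer_singleton_iff.2
        (Commute.pow_right (show Commute c x from mem_centralizer_singleton_iff.1 hc) n).eq
    by_cases hm1 : m = 1
    · obtain ⟨j, rfl⟩ : ∃ j, k = j + 1 := ⟨k - 1, by
        rcases Nat.eq_zero_or_pos k with h | h
        · rw [h, hm1, pow_zero, mul_one, orderOf_eq_one_iff] at he; exact absurd he hx1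
        · omega⟩
      rw [hm1, mul_one] at he
      set r := x ^ 2 ^ j with hr
      have hri : Inv r := Inv.of_orderOf (by
        rw [hr, orderOf_pow, he, Nat.gcd_eq_right (pow_dvd_pow 2 j.le_succ), pow_succ,
          Nat.mul_div_cancel_left _ (by positivity)])
      have hrC : r ∈ centralizer ({s} : Set G) := pow_mem hx _
      have hrp : IsPGroup 2 (zpowers r) :=
        IsPGroup.of_card (n := 1) (by rw [Nat.card_zpowers, hri.orderOf, pow_one])
      obtain ⟨c, hc, hcr⟩ := exists_conj_into T hT (zpowers r) hrp (zpowers_le.2 hrC)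
      have hcr' : c * r * c⁻¹ = r := by
        rw [habel c (mem_centralizer_singleton_iff.2 hc.eq) r hrC, mul_inv_cancel_right]
      exact (hpow _).trans (hall r (hcr' ▸ hcr r (mem_zpowers r)) hri).le
    · set y := x ^ 2 ^ k with hy
      have hyo : orderOf y = m := by
        rw [hy, orderOf_pow, he, Nat.gcd_eq_right (dvd_mul_right _ _),
          Nat.mul_div_cancel_left _ (by positivity)]
      exact (hpow _).trans (hG.odd_centralizer_le hs (hyo ▸ hm)
        (fun e => hm1 (hyo.symm.trans (orderOf_eq_one_iff.2 e)))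
        (mem_centralizer_singleton_iff.1 (pow_mem hx _)))
  have hI : ∀ v : G, v * v = 1 → v ≠ 1 →
      (∀ a ∈ centralizer ({v} : Set G), ∀ b ∈ centralizer ({v} : Set G), a * b = b * a) ∧
      ∀ x ∈ centralizer ({v} : Set G), x ≠ 1 →
        centralizer ({x} : Set G) = centralizer ({v} : Set G) := by
    intro v hv hv1
    obtain ⟨g, hg⟩ := exists_conj_mem T (v := v) (IsPGroup.of_card (n := 1) (by
      rw [Nat.card_zpowers, pow_one]; exact Inv.orderOf ⟨hv, hv1⟩))
    have he := hall _ hg ((show Inv v from ⟨hv, hv1⟩).conj g)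
    have htr : ∀ x w : G, w ∈ centralizer ({x} : Set G) ↔
        g * w * g⁻¹ ∈ centralizer ({g * x * g⁻¹} : Set G) := fun x w => by
      rw [mem_centralizer_singleton_iff, mem_centralizer_singleton_iff, conj_mul, conj_mul,
        mul_left_inj, mul_right_inj]
    refine ⟨fun a ha b hb => ?_, fun x hx hx1 => ?_⟩
    · have := habel _ (he ▸ (htr v a).1 ha) _ (he ▸ (htr v b).1 hb)
      rwa [conj_mul, conj_mul, mul_left_inj, mul_right_inj] at this
    · have hxC := he ▸ (htr v x).1 hx
      ext w
      rw [htr x w, htr v w, hsub _ hxC (fun e => hx1 (conj_eq_one_iff.1 e)), he]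
  have h2 : 2 ∣ Nat.card G := hs.orderOf ▸ orderOf_dvd_natCard s
  obtain ⟨helem, F, iF, iFt, f, -, -, he⟩ := CfsgLib.CTGroup.psl_two_even_of_invCA hna h2 hI
  refine ⟨fun a t hat => hat.2.2 ?_, F, iF, iFt, he⟩
  have := (helem t hat.2.orderOf).2 a (mem_centralizer_singleton_iff.2 hat.comm.eq)
  rw [pow_two, hat.1] at this
  exact this

/-- A simple group with `Hyp` and abelian Sylow `2`-subgroup. -/
theorem Hyp.abelian_case (hG : Hyp G) [IsSimpleGroup G] (hna : ¬ IsMulCommutative G) (T : Sylow 2 G)
    [hTc : IsMulCommutative (T : Subgroup G)] {z : G} (hz : Inv z) :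
    (∀ a t : G, ¬ Root a t) ∧ ∃ (F : Type) (_ : Field F) (_ : Fintype F),
      Nonempty (G ≃* Matrix.ProjectiveSpecialLinearGroup (Fin 2) F) := by
  classical
  haveI : Fact (Nat.Prime 2) := ⟨Nat.prime_two⟩
  have hTcomm : ∀ x ∈ (T : Subgroup G), ∀ y ∈ (T : Subgroup G), Commute x y := fun x hx y hy =>
    congrArg Subtype.val (hTc.is_comm.comm ⟨x, hx⟩ ⟨y, hy⟩)
  have hTC : ∀ {r : G}, r ∈ (T : Subgroup G) → (T : Subgroup G) ≤ centralizer ({r} : Set G) :=
    fun {r} hr x hx => mem_centralizer_singleton_iff.2 (hTcomm x hx r hr).eq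
  have hcenT : ∀ {x : G}, x ∈ (T : Subgroup G) → x ∈ centralizer ((T : Subgroup G) : Set G) :=
    fun {x} hx => mem_centralizer_iff.2 fun w hw => hTcomm w hw x hx
  -- fusion inside `N(T)`
  have hfuse : ∀ r ∈ (T : Subgroup G), Inv r → ∃ n ∈ normalizer ((T : Subgroup G) : Set G),
      n * r * n⁻¹ ≠ r := by
    intro r hr hri
    obtain ⟨g, hg, hne⟩ := exists_fused hna T hri
    obtain ⟨n, hn, he⟩ := T.conj_eq_normalizer_conj_of_mem_centralizer r g⁻¹ (hcenT hr)
      (by rw [inv_inv]; exact hcenT hg)
    rw [inv_inv] at he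
    exact ⟨n⁻¹, inv_mem hn, by rw [inv_inv, ← he]; exact hne⟩
  obtain ⟨g₀, hg₀⟩ := exists_conj_mem T (v := z) (IsPGroup.of_card (n := 1) (by
    rw [Nat.card_zpowers, pow_one]; exact hz.orderOf))
  by_cases hO : ∀ r ∈ (T : Subgroup G), Inv r → core r = ⊥
  · refine hG.equal_case hna T (hz.conj g₀) hg₀ fun r hr hri => ?_
    rw [hG.centralizer_eq_sup T hri (hTC hr), hG.centralizer_eq_sup T (hz.conj g₀) (hTC hg₀),
      hO r hr hri, hO _ hg₀ (hz.conj g₀)]
  push Not at hO
  obtain ⟨s, hsT, hs, hsO⟩ := hO
  obtain ⟨y, hy, hy1⟩ := (core s).bot_or_exists_ne_one.resolve_left hsO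
  -- an involution of `T` with a different centraliser inverts the core
  have hfree : ∀ r, Inv r → centralizer ({r} : Set G) ≠ centralizer ({s} : Set G) →
      ∀ w ∈ core s, w ≠ 1 → ¬ Commute r w := fun r hr hne w hw hw1 h =>
    hne (hG.eq_of_odd hs hr (odd_of_mem_core hw) hw1 (commute_of_mem_core hw) h.symm).symm
  have hinv : ∀ r ∈ (T : Subgroup G), Inv r → centralizer ({r} : Set G) ≠ centralizer ({s} : Set G) →
      ∀ w ∈ core s, r * w * r⁻¹ = w⁻¹ := by
    intro r hr hri hne w hw
    have hrw : r * w * r⁻¹ ∈ core s := hG.mem_core hs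
      (by rw [← MulAut.conj_apply, MulEquiv.orderOf_eq]; exact odd_of_mem_core hw)
      (((hTcomm r hr s hsT).mul_left (commute_of_mem_core hw)).mul_left (hTcomm r hr s hsT).inv_left)
    have hfix : Commute r (r * w * r⁻¹ * w) := by
      refine mul_inv_eq_iff_eq_mul.1 ?_
      rw [← conj_mul, hri.inv_eq, show r * (r * w * r) * r = (r * r) * w * (r * r) by group, hri.1,
        one_mul, mul_one]
      have := (hG.core_commute hs hrw hw).eq
      rw [hri.inv_eq] at this
      exact this.symm
    refine eq_inv_of_mul_eq_one_left ?_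
    by_contra hne'
    exact hfree r hri hne _ (mul_mem hrw hw) hne' hfix
  by_cases hall : ∀ r ∈ (T : Subgroup G), Inv r → centralizer ({r} : Set G) = centralizer ({s} : Set G)
  · exact hG.equal_case hna T hs hsT hall
  push Not at hall
  obtain ⟨u, huT, hu, hune⟩ := hall
  -- membership in the class of `s`
  have hP : ∀ r ∈ (T : Subgroup G), Inv r →
      (centralizer ({r} : Set G) = centralizer ({s} : Set G) ↔ Commute r y) := by
    refine fun r hr hri => ⟨fun h => ?_, fun h => ?_⟩
    · exact (mem_centralizer_singleton_iff.1 (h.symm ▸ core_le s hy) : Commute y r).symm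
    · by_contra hne; exact hfree r hri hne y hy hy1 h
  have hout : ∀ r r', r ∈ (T : Subgroup G) → r * r = 1 → ¬ Commute r y → r' ∈ (T : Subgroup G) →
      r' * r' = 1 → ¬ Commute r' y → Commute (r * r') y := by
    intro r r' hr hr2 hry hr' hr'2 hr'y
    have hinv' : ∀ r ∈ (T : Subgroup G), r * r = 1 → ¬ Commute r y → r * y * r⁻¹ = y⁻¹ :=
      fun r hr hr2 hry => hinv r hr ⟨hr2, fun e => hry (e ▸ Commute.one_left y)⟩
        (fun e => hry ((hP r hr ⟨hr2, fun e' => hry (e' ▸ Commute.one_left y)⟩).1 e)) y hy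
    refine mul_inv_eq_iff_eq_mul.1 ?_
    rw [show r * r' * y * (r * r')⁻¹ = r * (r' * y * r'⁻¹) * r⁻¹ by group, hinv' r' hr' hr'2 hr'y,
      ← conj_inv, hinv' r hr hr2 hry, inv_inv]
  have hu_y : ¬ Commute u y := hfree u hu hune y hy hy1
  have hsu : s ≠ u := fun e => hune (by rw [e])
  by_cases hW : ∀ r ∈ (T : Subgroup G), Inv r → Commute r y → r = s
  · -- four elements of square one
    have hfour : ∀ r ∈ (T : Subgroup G), r * r = 1 → r = 1 ∨ r = s ∨ r = u ∨ r = s * u := by
      intro r hr hr2
      by_cases hr1 : r = 1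
      · exact Or.inl hr1
      by_cases hry : Commute r y
      · exact Or.inr (Or.inl (hW r hr ⟨hr2, hr1⟩ hry))
      by_cases hru : r = u
      · exact Or.inr (Or.inr (Or.inl hru))
      have hru' : Inv (r * u) := (show Inv r from ⟨hr2, hr1⟩).mul hu (hTcomm r hr u huT) hru
      have e := hW (r * u) (mul_mem hr huT) hru' (hout r u hr hr2 hry huT hu.1 hu_y)
      exact Or.inr (Or.inr (Or.inr (by rw [← e, mul_assoc, hu.1, mul_one])))
    have hnoroot : ∀ a t : G, a ∈ (T : Subgroup G) → ¬ Root a t := by
      intro a t haT hat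
      -- move the root to `s`
      obtain ⟨b, hbT, hb⟩ : ∃ b ∈ (T : Subgroup G), Root b s := by
        have htT : t ∈ (T : Subgroup G) := hat.1 ▸ mul_mem haT haT
        have hmove : ∀ r r', (∃ b ∈ (T : Subgroup G), Root b r) →
            (∃ n ∈ normalizer ((T : Subgroup G) : Set G), n * r * n⁻¹ = r') →
            ∃ b ∈ (T : Subgroup G), Root b r' := by
          rintro r r' ⟨b, hbT, hb⟩ ⟨n, hn, rfl⟩
          exact ⟨n * b * n⁻¹, (mem_normalizer_iff.1 hn b).1 hbT, hb.conj n⟩
        by_cases hts : t = s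
        · exact ⟨a, haT, hts ▸ hat⟩
        obtain ⟨n, hn, hne⟩ := hfuse t htT hat.2
        have h1 : n * t * n⁻¹ ∈ (T : Subgroup G) := (mem_normalizer_iff.1 hn t).1 htT
        by_cases e1 : n * t * n⁻¹ = s
        · exact hmove t s ⟨a, haT, hat⟩ ⟨n, hn, e1⟩
        obtain ⟨m, hm, hme⟩ := hfuse s hsT hs
        have h2 : m * s * m⁻¹ ∈ (T : Subgroup G) := (mem_normalizer_iff.1 hm s).1 hsT
        have hback : ∀ r, m * s * m⁻¹ = r → (∃ b ∈ (T : Subgroup G), Root b r) →
            ∃ b ∈ (T : Subgroup G), Root b s := fun r e hr =>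
          hmove r s hr ⟨m⁻¹, inv_mem hm, by rw [← e]; group⟩
        by_cases e2 : m * s * m⁻¹ = t
        · exact hback t e2 ⟨a, haT, hat⟩
        · refine hback (n * t * n⁻¹) ?_ (hmove t _ ⟨a, haT, hat⟩ ⟨n, hn, rfl⟩)
          rcases hfour t htT hat.2.1 with t1 | t1 | t1 | t1
          · exact absurd t1 hat.2.2
          · exact absurd t1 hts
          all_goals
            rcases hfour _ h1 (hat.2.conj n).1 with x1 | x1 | x1 | x1
            · exact absurd x1 (hat.2.conj n).2
            · exact absurd x1 e1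
            all_goals
              rcases hfour _ h2 (hs.conj m).1 with x2 | x2 | x2 | x2
              · exact absurd x2 (hs.conj m).2
              · exact absurd x2 hme
              all_goals first
                | exact x2.trans x1.symm
                | exact absurd (x1.trans t1.symm) hne
                | exact absurd (x2.trans t1.symm) e2
      exact hu_y (hG.odd_commute hb hu (hTcomm b hbT u huT) (odd_of_mem_core hy)
        (commute_of_mem_core hy)).symm
    have hexp : ∀ r ∈ (T : Subgroup G), r * r = 1 := by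
      intro r hr
      rcases twoElt_cases (twoElt_of_mem T.2 hr) with e | e | ⟨h, hh, w, -, hw⟩
      · rw [e, one_mul]
      · exact e.1
      · exact absurd hw (hnoroot h w ((zpowers_le.2 hr) hh))
    have hnr : ∀ a t : G, ¬ Root a t := by
      intro a t hat
      have hp : IsPGroup 2 (zpowers a) := by
        intro x
        refine ⟨2, Subtype.ext ?_⟩
        obtain ⟨i, hi⟩ := mem_zpowers_iff.1 x.2
        show (x : G) ^ 2 ^ 2 = 1
        rw [← hi, show (2 : ℕ) ^ 2 = 4 by norm_num, ← zpow_natCast, ← zpow_mul, mul_comm, zpow_mul,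
          zpow_natCast, hat.pow_four, one_zpow]
      obtain ⟨g, hg⟩ := exists_conj_mem T hp
      exact hnoroot _ _ hg (hat.conj g)
    refine ⟨hnr, ?_⟩
    set s' : (T : Subgroup G) := ⟨s, hsT⟩ with hs'
    have hs'o : orderOf s' = 2 := by rw [hs', Subgroup.orderOf_mk]; exact hs.orderOf
    have hmemS : ∀ x : G, x ∈ zpowers s ↔ x = 1 ∨ x = s := by
      intro x
      constructor
      · intro hx
        obtain ⟨i, rfl⟩ := mem_zpowers_iff.1 hx
        rw [← zpow_mod_orderOf, hs.orderOf]
        rcases Int.emod_two_eq_zero_or_one i with h | h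
        · exact Or.inl (by simp [h])
        · exact Or.inr (by simp [h])
      · rintro (rfl | rfl)
        · exact one_mem _
        · exact mem_zpowers _
    have hu_s : u ∉ zpowers s := fun h => ((hmemS u).1 h).elim hu.2 (fun e => hsu e.symm)
    have hidx : ∀ x ∈ (T : Subgroup G), x ∉ zpowers s → x * u ∈ zpowers s := by
      intro x hx hxs
      rw [hmemS] at hxs ⊢
      push Not at hxs
      rcases hfour x hx (hexp x hx) with e | e | e | e
      · exact absurd e hxs.1
      · exact absurd e hxs.2
      · left; rw [e, hu.1]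
      · right; rw [e, mul_assoc, hu.1, mul_one]
    have hmem : ∀ x : (T : Subgroup G), x ∈ zpowers s' ↔ (x : G) ∈ zpowers s := fun x =>
      ⟨fun ⟨i, e⟩ => ⟨i, by rw [← e]; rfl⟩, fun ⟨i, e⟩ => ⟨i, Subtype.ext e⟩⟩
    have hindex : ∀ x : (T : Subgroup G), Xor' ((x : G) * u ∈ zpowers s) ((x : G) ∈ zpowers s) := by
      intro x
      by_cases hx : (x : G) ∈ zpowers s
      · refine Or.inr ⟨hx, fun h => hu_s ?_⟩
        have := mul_mem (inv_mem hx) h
        rwa [inv_mul_cancel_left] at this
      · exact Or.inl ⟨hidx x x.2 hx, hx⟩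
    have hD := HalfTransP.nonempty_dihedral_equiv (a := s') (t := (⟨u, huT⟩ : (T : Subgroup G)))
      hs'o (Subtype.ext hu.1) (fun h => hu_s ((hmem _).1 h))
      (Subtype.ext (by
        show u * s * u⁻¹ * s = 1
        rw [(hTcomm u huT s hsT).eq, mul_inv_cancel_right, hs.1]))
      (by
        rw [index_eq_two_iff]
        exact ⟨⟨u, huT⟩, fun x => by rw [hmem, hmem]; exact hindex x⟩)
    have hclass : ∀ x ∈ (T : Subgroup G), x ∉ zpowers s →
        centralizer ({x} : Set G) ≠ centralizer ({s} : Set G) := by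
      intro x hx hxs e
      rw [hmemS] at hxs
      push Not at hxs
      exact hxs.2 (hW x hx ⟨hexp x hx, hxs.1⟩ ((hP x hx ⟨hexp x hx, hxs.1⟩).1 e))
    suffices h : ∃ (F : Type) (_ : Field F) (_ : Fintype F), Odd (Fintype.card F) ∧
        Nonempty (G ≃* Matrix.ProjectiveSpecialLinearGroup (Fin 2) F) by
      obtain ⟨F, iF, iFt, -, he⟩ := h
      exact ⟨F, iF, iFt, he⟩
    refine Cfsg.Agent.S0508.result T 2 le_rfl hD s hs.orderOf hsT
      (fun x hx => (hTcomm x hx s hsT).eq) (core s) rfl (fun _ => ?_) (fun x hx hxC w hw => ?_) ?_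
    · have he : (T : Subgroup G) ⊓ centralizer (core s : Set G) = zpowers s := by
        refine le_antisymm (fun x hx => ?_) ?_
        · by_contra hxs
          exact hfree x ⟨hexp x hx.1, fun e => hxs (e ▸ one_mem _)⟩ (hclass x hx.1 hxs) y hy hy1
            (mem_centralizer_iff.1 hx.2 y hy).symm
        · exact zpowers_le.2 ⟨hsT, mem_centralizer_iff.2 fun w hw => (commute_of_mem_core hw).eq⟩
      rw [he]
      refine ⟨inferInstance, ?_⟩
      rw [relIndex, index_eq_two_iff]
      refine ⟨⟨u, huT⟩, fun x => ?_⟩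
      simp only [mem_subgroupOf, coe_mul]
      exact hindex x
    · have hxs : x ∉ zpowers s := fun h => hxC (mem_centralizer_iff.2 fun w hw => by
        rcases (hmemS x).1 h with e | e <;> rw [e]
        · rw [mul_one, one_mul]
        · exact (commute_of_mem_core hw).eq)
      exact hinv x hx ⟨hexp x hx, fun e => hxs (e ▸ one_mem _)⟩ (hclass x hx hxs) w hw
    · intro Y hY hY0 g hg
      obtain ⟨w, hw, hw1⟩ := Y.bot_or_exists_ne_one.resolve_left hY0
      have hgw : g * w * g⁻¹ ∈ core s := hY ((mem_normalizer_iff.1 hg w).1 hw)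
      have hws' : Commute w (g⁻¹ * s * g) := by
        have := (commute_of_mem_core hgw).eq
        show w * (g⁻¹ * s * g) = g⁻¹ * s * g * w
        calc w * (g⁻¹ * s * g) = g⁻¹ * (g * w * g⁻¹ * s) * g := by group
          _ = g⁻¹ * (s * (g * w * g⁻¹)) * g := by rw [this]
          _ = _ := by group
      set r := g⁻¹ * s * g with hr
      have hri : Inv r := by rw [hr]; simpa using hs.conj g⁻¹
      have he := hG.eq_of_odd hs hri (odd_of_mem_core (hY hw)) hw1 (commute_of_mem_core (hY hw)) hws'
      have hrT : r ∈ (T : Subgroup G) := by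
        have hsup := T.2.to_sup_of_normal_left' (IsPGroup.of_card (n := 1) (by
            rw [Nat.card_zpowers, pow_one]; exact hri.orderOf) : IsPGroup 2 (zpowers r))
          (zpowers_le.2 (centralizer_le_normalizer ((T : Subgroup G) : Set G)
            (mem_centralizer_iff.2 fun x hx => (mem_centralizer_singleton_iff.1
              (he ▸ hTC hsT hx) : x * r = r * x))))
        exact T.3 hsup le_sup_left ▸ mem_sup_right (mem_zpowers r)
      have hrs := hW r hrT hri ((hP r hrT hri).1 he.symm)
      refine mem_centralizer_singleton_iff.2 ?_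
      calc g * s = g * (g⁻¹ * s * g) := by rw [← hr, hrs]
        _ = _ := by group
  -- a second involution in the class: the class is invariant under `N(T)`
  exfalso
  push Not at hW
  obtain ⟨p, hpT, hp, hpy, hps⟩ := hW
  set N := normalizer ((T : Subgroup G) : Set G) with hN
  have hcl : ∀ n ∈ N, ∀ x ∈ (T : Subgroup G), Inv x → (Commute (n * x * n⁻¹) y ↔ Commute x y) := by
    intro n hn
    have htr : ∀ x w : G, centralizer ({x} : Set G) = centralizer ({w} : Set G) →
        centralizer ({n * x * n⁻¹} : Set G) = centralizer ({n * w * n⁻¹} : Set G) := by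
      intro x w h
      ext c
      have hk : ∀ x : G, c ∈ centralizer ({n * x * n⁻¹} : Set G) ↔
          n⁻¹ * c * n ∈ centralizer ({x} : Set G) := fun x => by
        rw [mem_centralizer_singleton_iff, mem_centralizer_singleton_iff]
        constructor <;> intro e
        · calc n⁻¹ * c * n * x = n⁻¹ * (c * (n * x * n⁻¹)) * n := by group
            _ = n⁻¹ * (n * x * n⁻¹ * c) * n := by rw [e]
            _ = _ := by group
        · calc c * (n * x * n⁻¹) = n * (n⁻¹ * c * n * x) * n⁻¹ := by group
            _ = n * (x * (n⁻¹ * c * n)) * n⁻¹ := by rw [e]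
            _ = _ := by group
      rw [hk, hk, h]
    have hsn : centralizer ({n * s * n⁻¹} : Set G) = centralizer ({s} : Set G) := by
      by_contra hne
      -- the classes of `s` and of its conjugate meet
      set s' := n * s * n⁻¹ with hs'
      have hs'T : s' ∈ (T : Subgroup G) := (mem_normalizer_iff.1 hn s).1 hsT
      have hs'i : Inv s' := hs.conj n
      have hs'y : ¬ Commute s' y := hfree s' hs'i hne y hy hy1
      set y' := n * y * n⁻¹ with hy'
      have hy'c : y' ∈ core s' := hG.mem_core hs'i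
        (by rw [hy', ← MulAut.conj_apply, MulEquiv.orderOf_eq]; exact odd_of_mem_core hy)
        (by show y' * s' = s' * y'; rw [hy', hs', conj_mul, conj_mul, (commute_of_mem_core hy).eq])
      have hp'T : n * p * n⁻¹ ∈ (T : Subgroup G) := (mem_normalizer_iff.1 hn p).1 hpT
      set p' := n * p * n⁻¹ with hp'
      have hp'c : centralizer ({p'} : Set G) = centralizer ({s'} : Set G) :=
        htr p s ((hP p hpT hp).2 hpy)
      have hp'y : ¬ Commute p' y := fun h => hne (by rw [← hp'c]; exact (hP p' hp'T (hp.conj n)).2 h)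
      have hps' : p' ≠ s' := fun e => hps (mul_left_cancel (mul_right_cancel e))
      have hw : Inv (p' * s') := (hp.conj n).mul hs'i (hTcomm _ hp'T _ hs'T) hps'
      have hwT : p' * s' ∈ (T : Subgroup G) := mul_mem hp'T hs'T
      have e1 := (hP _ hwT hw).2 (hout p' s' hp'T (hp.conj n).1 hp'y hs'T hs'i.1 hs'y)
      have hy'p : Commute y' p' :=
        mem_centralizer_singleton_iff.1 (hp'c.symm ▸ core_le s' hy'c)
      have e2 : centralizer ({s'} : Set G) = centralizer ({p' * s'} : Set G) :=
        hG.eq_of_odd hs'i hw (odd_of_mem_core hy'c) (fun e => hy1 (conj_eq_one_iff.1 e))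
          (commute_of_mem_core hy'c) (hy'p.mul_right (commute_of_mem_core hy'c))
      exact hne (e2.trans e1)
    intro x hx hxi
    have hx' : n * x * n⁻¹ ∈ (T : Subgroup G) := (mem_normalizer_iff.1 hn x).1 hx
    rw [← hP _ hx' (hxi.conj n), ← hP x hx hxi]
    constructor <;> intro h
    · rw [← hsn] at h
      ext c
      have h' := SetLike.ext_iff.1 h (n * c * n⁻¹)
      rw [mem_centralizer_singleton_iff, mem_centralizer_singleton_iff, conj_mul, conj_mul, conj_mul,
        conj_mul, mul_left_inj, mul_right_inj, mul_left_inj, mul_right_inj] at h'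
      rw [mem_centralizer_singleton_iff, mem_centralizer_singleton_iff]
      exact h'
    · rw [htr x s h, hsn]
  have hnoidx : ∀ H : Subgroup G, H.index ≠ 2 := by
    intro H hH
    haveI := normal_of_index_eq_two hH
    rcases (inferInstance : H.Normal).eq_bot_or_eq_top with e | e
    · rw [e, index_bot] at hH
      haveI : IsCyclic G := isCyclic_of_prime_card (p := 2) hH
      exact hna IsCyclic.isMulCommutative
    · rw [e, index_top] at hH; omega
  haveI : ((T : Subgroup G).subgroupOf N).Normal := normal_in_normalizer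
  haveI := Fintype.ofFinite (N ⧸ (T : Subgroup G).subgroupOf N)
  let act : (N ⧸ (T : Subgroup G).subgroupOf N) → (T : Subgroup G) →* (T : Subgroup G) := fun q =>
    ((T : Subgroup G).normalizerMonoidHom q.out).toMonoidHom
  have htriv := CfsgLib.AbelianFocal.average_trivial hnoidx T act (fun q x => rfl)
    (⟨u, huT⟩ : (T : Subgroup G))
  open scoped IsMulCommutative in
  have hprod : ∀ F : Finset (N ⧸ (T : Subgroup G).subgroupOf N),
      ((∏ q ∈ F, act q ⟨u, huT⟩ : (T : Subgroup G)) : G) * (∏ q ∈ F, act q ⟨u, huT⟩ : (T : Subgroup G)) = 1 ∧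
      (Commute ((∏ q ∈ F, act q ⟨u, huT⟩ : (T : Subgroup G)) : G) y ↔ Even F.card) := by
    intro F
    induction F using Finset.induction_on with
    | empty => simp [Commute.one_left]
    | @insert q F hq ih =>
      rw [Finset.prod_insert hq, Finset.card_insert_of_notMem hq]
      set e := (q.out : G) * u * (q.out : G)⁻¹ with he
      have heq : ((act q ⟨u, huT⟩ : (T : Subgroup G)) : G) = e := rfl
      set P := ((∏ q ∈ F, act q ⟨u, huT⟩ : (T : Subgroup G)) : G) with hPd
      have hPT : P ∈ (T : Subgroup G) := SetLike.coe_mem _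
      have heT : e ∈ (T : Subgroup G) := (mem_normalizer_iff.1 q.out.2 u).1 huT
      have hey : ¬ Commute e y := fun h => hu_y ((hcl _ q.out.2 u huT hu).1 h)
      have hei : Inv e := hu.conj _
      rw [Subgroup.coe_mul, heq, ← hPd]
      refine ⟨by rw [(hTcomm P hPT e heT).mul_mul_mul_comm, hei.1, ih.1, one_mul], ?_⟩
      by_cases hPy : Commute P y
      · have hF := ih.2.1 hPy
        refine iff_of_false (fun h => hey ?_) (by rw [Nat.even_add_one]; exact fun h => h hF)
        have := h.mul_left hPy.inv_left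
        rwa [mul_inv_cancel_right] at this
      · exact iff_of_true (hout e P heT hei.1 hey hPT ih.1 hPy)
          (Nat.even_add_one.2 (fun h => hPy (ih.2.2 h)))
  have h2 := (hprod Finset.univ).2
  rw [htriv, Subgroup.coe_one, Finset.card_univ, ← Nat.card_eq_fintype_card, ← index_eq_card] at h2
  have heven := h2.1 (Commute.one_left y)
  exact T.not_dvd_index ((even_iff_two_dvd.1 heven).trans
    (relIndex_dvd_index_of_le le_normalizer))

end CfsgLib.NormCyclic
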