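import Cfsg.Agent.NormCyclic.Basic
import Cfsg.Agent.Invol.ThompsonTransfer

/-!
# Two commuting involutions with commuting roots

Under `Hyp`, if a root of an involution centralises another involution having a root, then a Sylow
`2`-subgroup of a simple group is abelian.
-/

set_option autoImplicit false
set_option linter.style.haveILetI false
set_option linter.unusedSectionVars false

namespace CfsgLib.NormCyclic

open Subgroup

universe u

variable {G : Type u} [Group G] [Finite G]

/-- A 2-element. -/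
def TwoElt (g : G) : Prop := ∃ k : ℕ, orderOf g = 2 ^ k

theorem twoElt_of_mem {P : Subgroup G} (hP : IsPGroup 2 P) {g : G} (hg : g ∈ P) : TwoElt g := by
  obtain ⟨k, hk⟩ := (IsPGroup.iff_orderOf.1 hP) ⟨g, hg⟩
  exact ⟨k, by rwa [Subgroup.orderOf_mk] at hk⟩

theorem twoElt_cases {g : G} (hg : TwoElt g) :
    g = 1 ∨ Inv g ∨ ∃ h ∈ zpowers g, ∃ s ∈ zpowers g, Root h s := by
  obtain ⟨k, hk⟩ := hg
  match k, hk with
  | 0, hk => exact Or.inl (orderOf_eq_one_iff.1 (by simpa using hk))
  | 1, hk => exact Or.inr (Or.inl (Inv.of_orderOf (by simpa using hk)))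
  | (j + 2), hk =>
    refine Or.inr (Or.inr ⟨g ^ 2 ^ j, npow_mem_zpowers g _, g ^ 2 ^ (j + 1), npow_mem_zpowers g _,
      by rw [← pow_add, pow_succ, mul_two], ?_, ?_⟩)
    · rw [← pow_add, ← mul_two, ← pow_succ, ← hk, pow_orderOf_eq_one]
    · intro e
      have h := orderOf_dvd_of_pow_eq_one e
      rw [hk, Nat.pow_dvd_pow_iff_le_right (by norm_num)] at h
      omega

/-- If a centralising element fixes a root of `t` it fixes the roots of a linked involution. -/
theorem Hyp.fix_of_fix (hG : Hyp G) {a b t s x : G} (ha : Root a t) (hb : Root b s) (hne : t ≠ s)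
    (has : Commute a s) (hxt : Commute x t) (hxs : Commute x s) (hxa : Commute x a) : Commute x b := by
  have hab := hG.root_commute ha hb hne has
  have hts : Commute t s := ha.1 ▸ has.mul_left has
  have hab2 : Root (a * b) (t * s) :=
    ⟨by rw [hab.symm.mul_mul_mul_comm, ha.1, hb.1], ha.2.mul hb.2 hts hne⟩
  rcases hG.conj_root hb hxs with p | p
  · exact mul_inv_eq_iff_eq_mul.1 p
  · exfalso
    have e : x * (a * b) * x⁻¹ = a * b⁻¹ := by
      rw [← conj_mul, p, hxa.eq, mul_inv_cancel_right]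
    rcases hG.conj_root hab2 (hxt.mul_right hxs) with q | q <;> rw [e] at q
    · exact hb.ne_inv (mul_left_cancel q)
    · rw [mul_inv_rev, ← hab.inv_inv.eq] at q
      exact ha.ne_inv (mul_right_cancel q).symm

/-- An involution commuting with `t` fixes every involution linked to `t`. -/
theorem Hyp.invol_no_swap (hG : Hyp G) {a b t s c : G} (ha : Root a t) (hb : Root b s) (hne : t ≠ s)
    (has : Commute a s) (hc : Inv c) (hct : Commute c t) : Commute c s := by
  rcases hG.conj_pair ha hb.2 has hct with p | p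
  · exact mul_inv_eq_iff_eq_mul.1 p
  exfalso
  have hab := hG.root_commute ha hb hne has
  have hbt : Commute b t := (ha.1 ▸ hab.mul_left hab : Commute t b).symm
  have hts : Commute t s := ha.1 ▸ has.mul_left has
  have hb' : Root (c * b * c⁻¹) (s * t) := p ▸ hb.conj c
  have hsne : s ≠ s * t := fun e => ha.2.2 (mul_left_cancel (e.symm.trans (mul_one s).symm))
  have hcomm : Commute b (c * b * c⁻¹) := hG.root_commute hb hb' hsne (hb.comm.mul_right hbt)
  have hy : (c * b) * (c * b) = (c * b * c⁻¹) * b := by rw [hc.inv_eq]; group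
  have ht4 : t ∈ zpowers (c * b) := by
    have h4 : ((c * b) * (c * b)) * ((c * b) * (c * b)) = t := by
      rw [hy, hcomm.mul_mul_mul_comm, hb'.1, hb.1, mul_assoc, hts.eq, ← mul_assoc, hb.2.1, one_mul]
    rw [← h4]
    exact mul_mem (mul_mem (mem_zpowers _) (mem_zpowers _)) (mul_mem (mem_zpowers _) (mem_zpowers _))
  have h1 := hG.conj_mem ha.2 ht4 hbt
  obtain ⟨i, hi⟩ := mem_zpowers_iff.1 h1
  have h2 : Commute (b * (c * b) * b⁻¹) (c * b) := hi ▸ (Commute.refl (c * b)).zpow_left i
  have h3 : b * c * (c * b) = c * b * (b * c) := by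
    have h2' := h2.eq
    rwa [show b * (c * b) * b⁻¹ = b * c by group] at h2'
  rw [show b * c * (c * b) = b * (c * c) * b by group, hc.1, mul_one, hb.1,
    show c * b * (b * c) = c * (b * b) * c by group, hb.1] at h3
  nth_rw 2 [← hc.inv_eq] at h3
  rw [p] at h3
  exact ha.2.2 (mul_left_cancel (h3.symm.trans (mul_one s).symm))

/-- A 2-element commuting with `t` fixes every involution linked to `t`. -/
theorem Hyp.no_swap (hG : Hyp G) {a b t s g : G} (ha : Root a t) (hb : Root b s) (hne : t ≠ s)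
    (has : Commute a s) (hg : TwoElt g) (hgt : Commute g t) : Commute g s := by
  rcases twoElt_cases hg with rfl | hi | ⟨h, hh, s₀, hs₀, hr⟩
  · exact Commute.one_left s
  · exact hG.invol_no_swap ha hb hne has hi hgt
  rcases hG.conj_pair ha hb.2 has hgt with p | p
  · exact mul_inv_eq_iff_eq_mul.1 p
  exfalso
  have hab := hG.root_commute ha hb hne has
  have hbt : Commute b t := (ha.1 ▸ hab.mul_left hab : Commute t b).symm
  have hts : Commute t s := ha.1 ▸ has.mul_left has
  have hpow : ∀ x ∈ zpowers g, Commute x t := fun x hx => by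
    obtain ⟨i, rfl⟩ := mem_zpowers_iff.1 hx
    exact hgt.zpow_left i
  have hbs₀ : Commute b s₀ := by
    by_cases e : s₀ = t
    · rw [e]; exact hbt
    · have hs₀s : Commute s₀ s := hG.invol_no_swap ha hb hne has hr.2 (hpow s₀ hs₀)
      have hah : Commute h a := hG.root_commute hr ha e (hpow h hh)
      exact (hG.fix_of_fix ha hb hne has (hpow s₀ hs₀) hs₀s (hr.1 ▸ hah.mul_left hah)).symm
  obtain ⟨i, hi⟩ := mem_zpowers_iff.1 (hG.conj_mem hr.2 hs₀ hbs₀)
  have hcg : Commute (b * g * b⁻¹) g := hi ▸ (Commute.refl g).zpow_left i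
  have hb' : Root (g * b * g⁻¹) (s * t) := p ▸ hb.conj g
  have hsne : s ≠ s * t := fun e => ha.2.2 (mul_left_cancel (e.symm.trans (mul_one s).symm))
  have hcomm : Commute b (g * b * g⁻¹) := hG.root_commute hb hb' hsne (hb.comm.mul_right hbt)
  have hst : Inv (s * t) := hb'.2
  have hg2s : Commute (g * g) s := by
    refine mul_inv_eq_iff_eq_mul.1 ?_
    rw [show g * g * s * (g * g)⁻¹ = g * (g * s * g⁻¹) * g⁻¹ by group, p, ← conj_mul, p, hgt.eq,
      mul_inv_cancel_right, mul_assoc, ha.2.1, mul_one]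
  have key : g * g * b⁻¹ * (g * g)⁻¹ = b * (s * t) := by
    have h1 := hcg.eq
    have e1 : g * g * b⁻¹ * (g * g)⁻¹ =
        (g * b * g⁻¹)⁻¹ * (g * (b * g * b⁻¹)) * (g * g)⁻¹ := by group
    rw [e1, ← h1, show (g * b * g⁻¹)⁻¹ * (b * g * b⁻¹ * g) * (g * g)⁻¹ =
      (g * b * g⁻¹)⁻¹ * b * (g * b * g⁻¹)⁻¹ by group, hcomm.symm.inv_left.eq, mul_assoc,
      ← mul_inv_rev, hb'.1, hst.inv_eq]
  have hbi : g * g * b⁻¹ * (g * g)⁻¹ = b ∨ g * g * b⁻¹ * (g * g)⁻¹ = b⁻¹ := by
    rcases hG.conj_root hb hg2s with q | q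
    · exact Or.inr (by rw [← conj_inv, q])
    · exact Or.inl (by rw [← conj_inv, q, inv_inv])
  rcases hbi with q | q <;> rw [key] at q
  · exact hst.2 (mul_left_cancel (q.trans (mul_one b).symm))
  · rw [hb.inv_eq] at q
    exact ha.2.2 (mul_left_cancel ((mul_left_cancel q).trans (mul_one s).symm))

/-- A `2`-subgroup of `C(v)` can be conjugated inside `C(v)` into a Sylow subgroup of `G` in `C(v)`. -/
theorem exists_conj_into (T : Sylow 2 G) {v : G} (hT : (T : Subgroup G) ≤ centralizer ({v} : Set G))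
    (D : Subgroup G) (hD : IsPGroup 2 D) (hDv : D ≤ centralizer ({v} : Set G)) :
    ∃ c : G, Commute c v ∧ ∀ y ∈ D, c * y * c⁻¹ ∈ (T : Subgroup G) := by
  haveI : Fact (Nat.Prime 2) := ⟨Nat.prime_two⟩
  have hD2 : IsPGroup 2 (D.subgroupOf (centralizer ({v} : Set G))) :=
    hD.of_equiv (subgroupOfEquivOfLe hDv).symm
  obtain ⟨D₀, hD₀⟩ := hD2.exists_le_sylow
  obtain ⟨c, hc⟩ := MulAction.exists_smul_eq (centralizer ({v} : Set G)) D₀ (T.subtype hT)
  refine ⟨c, mem_centralizer_singleton_iff.1 c.2, fun y hy => ?_⟩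
  have : c * ⟨y, hDv hy⟩ * c⁻¹ ∈ (T.subtype hT : Subgroup _) := by
    rw [← hc]; exact ⟨_, hD₀ hy, rfl⟩
  exact this

/-- A linked involution is central in a Sylow subgroup containing given 2-elements of its
centraliser. -/
theorem Hyp.exists_sylow_linked (hG : Hyp G) {a t : G} (ha : Root a t) (R : Subgroup G)
    (hR : IsPGroup 2 R) (haR : a ∈ R) (hRt : R ≤ centralizer ({t} : Set G)) :
    ∃ S : Sylow 2 G, R ≤ S ∧ (S : Subgroup G) ≤ centralizer ({t} : Set G) := by
  haveI : Fact (Nat.Prime 2) := ⟨Nat.prime_two⟩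
  obtain ⟨P₀, hP₀⟩ := (show IsPGroup 2 (R.subgroupOf (centralizer ({t} : Set G))) from
    hR.of_equiv (subgroupOfEquivOfLe hRt).symm).exists_le_sylow
  set P := (P₀ : Subgroup _).map (centralizer ({t} : Set G)).subtype with hPdef
  have hP2 : IsPGroup 2 P := P₀.2.map _
  have hPC : P ≤ centralizer ({t} : Set G) := map_subtype_le _
  have hRP : R ≤ P := fun x hx => ⟨⟨x, hRt hx⟩, hP₀ hx, rfl⟩
  have hmax : ∀ Q : Subgroup G, IsPGroup 2 Q → P ≤ Q → Q ≤ centralizer ({t} : Set G) → Q = P := by
    intro Q hQ hPQ hQC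
    have h := P₀.3 (show IsPGroup 2 (Q.subgroupOf (centralizer ({t} : Set G))) from
      hQ.of_equiv (subgroupOfEquivOfLe hQC).symm) (fun x hx => hPQ ⟨x, hx, rfl⟩)
    rw [hPdef, ← h, map_subgroupOf_eq_of_le hQC]
  obtain ⟨S, hS⟩ := hP2.exists_le_sylow
  refine ⟨S, hRP.trans hS, ?_⟩
  by_contra hcon
  have hlt : P < S := lt_of_le_of_ne hS (fun e => hcon (e ▸ hPC))
  obtain ⟨g, hgS, hgN, hgP⟩ : ∃ g ∈ (S : Subgroup G), g ∈ normalizer (P : Set G) ∧ g ∉ P := by
    haveI : Finite (S : Subgroup G) := inferInstance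
    haveI : Group.IsNilpotent (S : Subgroup G) := S.2.isNilpotent
    have hlt' : P.subgroupOf S < ⊤ := lt_top_iff_ne_top.2 (fun e =>
      hlt.ne (le_antisymm hS (subgroupOf_eq_top.1 e)))
    obtain ⟨x, hxN, hxP⟩ := SetLike.exists_of_lt
      (Group.normalizerCondition_of_isNilpotent (P.subgroupOf (S : Subgroup G)) hlt')
    refine ⟨x, x.2, ?_, fun h => hxP h⟩
    rw [mem_normalizer_iff] at hxN ⊢
    intro y
    constructor
    · intro hy
      exact (hxN ⟨y, hS hy⟩).1 hy
    · intro hy
      have hyS : y ∈ (S : Subgroup G) := by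
        rw [show y = (x : G)⁻¹ * ((x : G) * y * (x : G)⁻¹) * x by group]
        exact mul_mem (mul_mem (inv_mem x.2) (hS hy)) x.2
      exact (hxN ⟨y, hyS⟩).2 hy
  -- a power of `g` moving `t` whose square fixes `t`
  have hnot : ¬ Commute g t := fun hc => hgP <| by
    have h := hmax (P ⊔ zpowers g) (S.2.to_le (sup_le hS (zpowers_le.2 hgS))) le_sup_left
      (sup_le hPC (zpowers_le.2 (mem_centralizer_singleton_iff.2 hc.eq)))
    exact h ▸ mem_sup_right (mem_zpowers g)
  obtain ⟨k, hk⟩ := twoElt_of_mem S.2 hgS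
  have hex : ∃ j, Commute (g ^ 2 ^ j) t := ⟨k, by rw [← hk, pow_orderOf_eq_one]; exact Commute.one_left t⟩
  classical
  obtain ⟨j, hj⟩ : ∃ j, Nat.find hex = j + 1 := by
    refine ⟨Nat.find hex - 1, (Nat.succ_pred_eq_of_pos ?_).symm⟩
    refine Nat.pos_of_ne_zero fun e => hnot ?_
    have := Nat.find_spec hex
    rwa [e, pow_zero, pow_one] at this
  set h := g ^ 2 ^ j with hh
  have hht : ¬ Commute h t := Nat.find_min hex (by omega)
  have hh2 : Commute (h * h) t := by
    have := Nat.find_spec hex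
    rwa [hj, pow_succ, pow_mul, pow_two] at this
  have hhN : h ∈ normalizer (P : Set G) := pow_mem hgN _
  have hne : t ≠ h * t * h⁻¹ := fun e => hht (mul_inv_eq_iff_eq_mul.1 e.symm)
  have hconj : ∀ x ∈ P, Commute x (h * t * h⁻¹) := fun x hx => by
    have hm : h⁻¹ * x * h ∈ P := by
      have := (mem_normalizer_iff.1 (inv_mem hhN) x).1 hx
      rwa [inv_inv] at this
    have hc : Commute (h⁻¹ * x * h) t := mem_centralizer_singleton_iff.1 (hPC hm)
    show x * (h * t * h⁻¹) = h * t * h⁻¹ * x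
    rw [show x * (h * t * h⁻¹) = h * (h⁻¹ * x * h * t) * h⁻¹ by group, hc.eq]
    group
  have hat' : Commute a (h * t * h⁻¹) := hconj a (hRP haR)
  have haa := hG.root_commute ha (ha.conj h) hne hat'
  have htt : Commute t (h * t * h⁻¹) := ha.1 ▸ hat'.mul_left hat'
  have hv : Root (a * (h * a * h⁻¹)) (t * (h * t * h⁻¹)) :=
    ⟨by rw [haa.symm.mul_mul_mul_comm, ha.1, (ha.conj h).1], ha.2.mul (ha.2.conj h) htt hne⟩
  have hat : Commute (a * (h * a * h⁻¹)) t := ha.comm.mul_left (ha.1 ▸ haa.mul_left haa :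
    Commute t (h * a * h⁻¹)).symm
  refine hht (hG.no_swap hv ha ?_ hat (twoElt_of_mem S.2 (pow_mem hgS _)) ?_)
  · exact fun e => (ha.2.conj h).2 (mul_left_cancel (e.trans (mul_one t).symm))
  · refine mul_inv_eq_iff_eq_mul.1 ?_
    rw [← conj_mul, show h * (h * t * h⁻¹) * h⁻¹ = (h * h) * t * (h * h)⁻¹ by group, hh2.eq,
      mul_inv_cancel_right, htt.eq]

/-- With linked involutions a Sylow 2-subgroup of a simple group is abelian. -/
theorem Hyp.abelian_of_linked (hG : Hyp G) [IsSimpleGroup G] (hna : ¬ IsMulCommutative G)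
    {a b t s : G} (ha : Root a t) (hb : Root b s) (hne : t ≠ s) (has : Commute a s) :
    ∃ S : Sylow 2 G, a ∈ (S : Subgroup G) ∧ IsMulCommutative (S : Subgroup G) := by
  haveI : Fact (Nat.Prime 2) := ⟨Nat.prime_two⟩
  have hab := hG.root_commute ha hb hne has
  have hbt : Commute b t := (ha.1 ▸ hab.mul_left hab : Commute t b).symm
  have hpg : ∀ {c r : G}, Root c r → IsPGroup 2 (zpowers c) := fun {c r} hc => by
    intro x
    refine ⟨2, Subtype.ext ?_⟩
    obtain ⟨i, hi⟩ := mem_zpowers_iff.1 x.2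
    show (x : G) ^ 2 ^ 2 = 1
    rw [← hi, show (2 : ℕ) ^ 2 = 4 by norm_num, ← zpow_natCast, ← zpow_mul, mul_comm, zpow_mul,
      zpow_natCast, hc.pow_four, one_zpow]
  set R := zpowers a ⊔ zpowers b with hR
  have hR2 : IsPGroup 2 R := by
    refine (hpg ha).to_sup_of_normal_right' (hpg hb) ?_
    refine zpowers_le.2 (centralizer_le_normalizer (zpowers b : Set G) (mem_centralizer_iff.2 ?_))
    intro x hx
    obtain ⟨i, rfl⟩ := mem_zpowers_iff.1 hx
    exact (hab.zpow_right i).eq.symm
  obtain ⟨S, hRS, hSt⟩ := hG.exists_sylow_linked ha R hR2 (mem_sup_left (mem_zpowers a))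
    (sup_le (zpowers_le.2 (mem_centralizer_singleton_iff.2 ha.comm.eq))
      (zpowers_le.2 (mem_centralizer_singleton_iff.2 hbt.eq)))
  have haS : a ∈ (S : Subgroup G) := hRS (mem_sup_left (mem_zpowers a))
  have hbS : b ∈ (S : Subgroup G) := hRS (mem_sup_right (mem_zpowers b))
  refine ⟨S, haS, ?_⟩
  have hSC : ∀ x ∈ (S : Subgroup G), Commute x t := fun x hx => mem_centralizer_singleton_iff.1 (hSt hx)
  have hsS : ∀ x ∈ (S : Subgroup G), Commute x s := fun x hx =>
    hG.no_swap ha hb hne has (twoElt_of_mem S.2 hx) (hSC x hx)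
  -- squares in `S` are central, and roots commute
  have hlink : ∀ r w : G, r ∈ (S : Subgroup G) → Root r w → w ≠ t → Commute a w ∧ Commute a r := by
    intro r w hr hrw hw
    have h1 := hG.root_commute hrw ha hw (hSC r hr)
    exact ⟨hrw.1 ▸ h1.symm.mul_right h1.symm, h1.symm⟩
  have hroot_a : ∀ r w : G, r ∈ (S : Subgroup G) → Root r w → Commute a r := by
    intro r w hr hrw
    by_cases hw : w = t
    · exact hG.root_commute_same ha (hw ▸ hrw) hb hne has
    · exact (hlink r w hr hrw hw).2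
  have hcent : ∀ r w : G, r ∈ (S : Subgroup G) → Root r w → ∀ x ∈ (S : Subgroup G), Commute x w := by
    intro r w hr hrw x hx
    by_cases hw : w = t
    · exact hw ▸ hSC x hx
    · exact hG.no_swap ha hrw (Ne.symm hw) (hlink r w hr hrw hw).1 (twoElt_of_mem S.2 hx) (hSC x hx)
  have hroots : ∀ r r' w w' : G, r ∈ (S : Subgroup G) → r' ∈ (S : Subgroup G) → Root r w →
      Root r' w' → Commute r r' := by
    intro r r' w w' hr hr' hrw hrw'
    by_cases hw : w = w'
    · subst hw
      by_cases hwt : w = t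
      · subst hwt; exact hG.root_commute_same hrw hrw' hb hne (hsS r hr)
      · exact hG.root_commute_same hrw hrw' ha hwt (hSC r hr)
    · exact hG.root_commute hrw hrw' hw (hcent r' w' hr' hrw' r hr)
  -- fixing `a` means fixing all roots
  have hfix : ∀ x ∈ (S : Subgroup G), Commute x a → ∀ r w : G, r ∈ (S : Subgroup G) → Root r w →
      Commute x r := by
    intro x hx hxa r w hr hrw
    by_cases hw : w = t
    · have hxb := hG.fix_of_fix ha hb hne has (hSC x hx) (hsS x hx) hxa
      exact hG.fix_of_fix hb (hw ▸ hrw) hne.symm hbt (hsS x hx) (hSC x hx) hxb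
    · exact hG.fix_of_fix ha hrw (Ne.symm hw) (hlink r w hr hrw hw).1 (hSC x hx)
        (hcent r w hr hrw x hx) hxa
  -- involutions of `C_S(a)` are central in `S`
  have hinv : ∀ u ∈ (S : Subgroup G), Inv u → Commute u a → ∀ x ∈ (S : Subgroup G), Commute x u := by
    intro u hu hui hua x hx
    have hub : Commute u b := hfix u hu hua b s hbS hb
    rcases hG.conj_pair ha hui hua.symm (hSC x hx) with p | p
    · exact mul_inv_eq_iff_eq_mul.1 p
    rcases hG.conj_pair hb hui hub.symm (hsS x hx) with q | q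
    · exact mul_inv_eq_iff_eq_mul.1 q
    · exact absurd (mul_left_cancel (p.symm.trans q)) hne
  -- everything fixes `a`
  have hall : ∀ x ∈ (S : Subgroup G), Commute x a := by
    by_contra hcon
    push Not at hcon
    obtain ⟨x, hxS, hxa⟩ := hcon
    have hxi : Inv x := by
      rcases twoElt_cases (twoElt_of_mem S.2 hxS) with rfl | h | ⟨r, hr, w, hw, hrw⟩
      · exact absurd (Commute.one_left a) hxa
      · exact h
      · exfalso
        refine hxa ?_
        obtain ⟨i, rfl⟩ := mem_zpowers_iff.1 hr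
        have hxr : Commute x (x ^ i) := (Commute.refl x).zpow_right i
        have hrS : x ^ i ∈ (S : Subgroup G) := zpow_mem hxS i
        by_cases hwt : w = t
        · subst hwt
          have h1 : Commute x b :=
            hG.fix_of_fix hrw hb hne (hsS _ hrS) (hSC x hxS) (hsS x hxS) hxr
          exact hG.fix_of_fix hb ha hne.symm hbt (hsS x hxS) (hSC x hxS) h1
        · exact hG.fix_of_fix hrw ha hwt (hSC _ hrS) (hcent _ w hrS hrw x hxS) (hSC x hxS) hxr
    set Q := (S : Subgroup G) ⊓ centralizer ({a} : Set G) with hQ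
    have hxQ : x ∉ Q := fun h => hxa (mem_centralizer_singleton_iff.1 h.2)
    have hinvert : ∀ y ∈ (S : Subgroup G), ¬ Commute y a → y * a * y⁻¹ = a⁻¹ := fun y hy hya =>
      (hG.conj_root ha (hSC y hy)).resolve_left fun e => hya (mul_inv_eq_iff_eq_mul.1 e)
    have hQi : Q.relIndex S = 2 := by
      rw [relIndex, index_eq_two_iff]
      refine ⟨⟨x, hxS⟩, fun y => ?_⟩
      simp only [mem_subgroupOf, coe_mul, hQ, Subgroup.mem_inf, y.2, true_and,
        (S : Subgroup G).mul_mem y.2 hxS, mem_centralizer_singleton_iff]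
      by_cases hya : Commute (y : G) a
      · refine Or.inr ⟨hya.eq, fun h => hxa ?_⟩
        have := hya.inv_left.mul_left (show Commute ((y : G) * x) a from h)
        rwa [inv_mul_cancel_left] at this
      · refine Or.inl ⟨?_, hya⟩
        refine mul_inv_eq_iff_eq_mul.1 ?_
        rw [show (y : G) * x * a * ((y : G) * x)⁻¹ = (y : G) * (x * a * x⁻¹) * (y : G)⁻¹ by group,
          hinvert x hxS hxa, ← conj_inv, hinvert y y.2 hya, inv_inv]
    rcases CfsgLib.ThompsonTransfer.thompson_transfer (S : Subgroup G) Q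
        (Nat.odd_iff.2 (Nat.two_dvd_ne_zero.1 S.not_dvd_index)) hQi hxi.1 with
      ⟨M, hM, hMi, -⟩ | ⟨h, hh⟩
    · haveI := hM
      rcases hM.eq_bot_or_eq_top with e | e
      · rw [e, index_bot] at hMi
        haveI : IsMulCommutative G := by
          haveI : IsCyclic G := isCyclic_of_prime_card (p := 2) hMi
          exact IsCyclic.isMulCommutative
        exact hna inferInstance
      · rw [e, index_top] at hMi; omega
    obtain ⟨huS, hua⟩ : h * x * h⁻¹ ∈ (S : Subgroup G) ∧ Commute (h * x * h⁻¹) a :=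
      ⟨hh.1, mem_centralizer_singleton_iff.1 hh.2⟩
    set u := h * x * h⁻¹ with hu
    have huC : ∀ y ∈ (S : Subgroup G), Commute y u := hinv u huS (hxi.conj h) hua
    -- move `C_S(x)` into `S`
    set D := ((S : Subgroup G) ⊓ centralizer ({x} : Set G)).map (MulAut.conj h).toMonoidHom with hD
    have hDu : D ≤ centralizer ({u} : Set G) := by
      rintro _ ⟨y, hy, rfl⟩
      refine mem_centralizer_singleton_iff.2 ?_
      show h * y * h⁻¹ * u = u * (h * y * h⁻¹)
      rw [hu, conj_mul, conj_mul, mem_centralizer_singleton_iff.1 hy.2]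
    have hSu : (S : Subgroup G) ≤ centralizer ({u} : Set G) := fun y hy =>
      mem_centralizer_singleton_iff.2 (huC y hy).eq
    obtain ⟨c, hc, hcD⟩ : ∃ c ∈ centralizer ({u} : Set G), ∀ y ∈ D, c * y * c⁻¹ ∈ (S : Subgroup G) := by
      have hD2 : IsPGroup 2 (D.subgroupOf (centralizer ({u} : Set G))) :=
        ((S.2.to_le inf_le_left).map _).of_equiv (subgroupOfEquivOfLe hDu).symm
      obtain ⟨D₀, hD₀⟩ := hD2.exists_le_sylow
      obtain ⟨c, hc⟩ := MulAction.exists_smul_eq (centralizer ({u} : Set G)) D₀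
        (S.subtype hSu)
      refine ⟨c, c.2, fun y hy => ?_⟩
      have : c * ⟨y, hDu hy⟩ * c⁻¹ ∈ (S.subtype hSu : Subgroup _) := by
        rw [← hc]; exact ⟨_, hD₀ hy, rfl⟩
      exact this
    set k := c * h with hk
    have hku : k * x * k⁻¹ = u := by
      rw [hk, show c * h * x * (c * h)⁻¹ = c * (h * x * h⁻¹) * c⁻¹ by group, ← hu,
        mem_centralizer_singleton_iff.1 hc, mul_inv_cancel_right]
    have ht' : k * t * k⁻¹ ∈ (S : Subgroup G) := by
      have := hcD (h * t * h⁻¹) ⟨t, ⟨ha.1 ▸ mul_mem haS haS,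
        mem_centralizer_singleton_iff.2 (hSC x hxS).symm.eq⟩, rfl⟩
      rwa [hk, show c * h * t * (c * h)⁻¹ = c * (h * t * h⁻¹) * c⁻¹ by group]
    have hr' := ha.conj k
    generalize hT : k * t * k⁻¹ = t' at ht' hr'
    generalize hA : k * a * k⁻¹ = a' at hr'
    have hta : Commute t' a := by
      by_contra hta
      have htb : ¬ Commute t' b := fun hb' =>
        hta (hG.fix_of_fix hb ha hne.symm hbt (hsS _ ht') (hSC _ ht') hb')
      have htab : ¬ Commute t' (a * b) := by
        intro h1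
        have hts : Commute t s := ha.1 ▸ has.mul_left has
        have hr2 : Root (a * b) (t * s) :=
          ⟨by rw [hab.symm.mul_mul_mul_comm, ha.1, hb.1], ha.2.mul hb.2 hts hne⟩
        exact hta (hG.fix_of_fix hr2 ha (fun e => hb.2.2 (mul_left_cancel (e.trans (mul_one t).symm)))
          (ha.comm.mul_left hbt) ((hSC _ ht').mul_right (hsS _ ht')) (hSC _ ht') h1)
      have hne1 : ∀ {w r : G}, Root r w → ¬ Commute t' r → t' ≠ w := fun {w r} hrw hn e => hn (e ▸ hrw.comm.symm)
      have key : ∀ {w r : G}, Root r w → ¬ Commute t' r → ¬ Commute a' w := fun {w r} hrw hn hw => by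
        have h1 := hG.root_commute hr' hrw (hne1 hrw hn) hw
        exact hn (hr'.1 ▸ h1.mul_left h1)
      rcases hG.conj_root hr' (hSC _ ht').symm with p | p
      · exact key ha hta (mul_inv_eq_iff_eq_mul.1 p).symm
      rcases hG.conj_root hr' (hsS _ ht').symm with q | q
      · exact key hb htb (mul_inv_eq_iff_eq_mul.1 q).symm
      have hts : Commute t s := ha.1 ▸ has.mul_left has
      refine key (w := t * s) (r := a * b) ⟨by rw [hab.symm.mul_mul_mul_comm, ha.1, hb.1],
        ha.2.mul hb.2 hts hne⟩ htab (mul_inv_eq_iff_eq_mul.1 ?_).symm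
      rw [show t * s * a' * (t * s)⁻¹ = t * (s * a' * s⁻¹) * t⁻¹ by group, q, ← conj_inv, p, inv_inv]
    have hua' : Commute u a' := by
      by_cases e : t' = t
      · subst e
        have h1 : Commute u b := hG.fix_of_fix ha hb hne has (hSC u huS) (hsS u huS) hua
        exact hG.fix_of_fix hb hr' hne.symm hbt (hsS u huS) (hSC u huS) h1
      · exact hG.fix_of_fix ha hr' (Ne.symm e) hta.symm (hSC u huS) (huC t' ht').symm hua
    refine hxa ?_
    show x * a = a * x
    have hua'' := hua'.eq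
    rw [← hku, ← hA, conj_mul, conj_mul] at hua''
    exact mul_left_cancel (mul_right_cancel hua'')
  -- all cyclic subgroups of `S` are normal
  refine ⟨⟨?_⟩⟩
  have hnorm : ∀ H : Subgroup (S : Subgroup G), H.Normal := by
    refine fun H => ⟨fun y hy c => ?_⟩
    suffices h : ((c * y * c⁻¹ : (S : Subgroup G)) : G) ∈ zpowers (y : G) by
      obtain ⟨i, hi⟩ := mem_zpowers_iff.1 h
      rw [show c * y * c⁻¹ = y ^ i from Subtype.ext (by rw [← hi, coe_zpow])]
      exact zpow_mem hy i
    rcases twoElt_cases (twoElt_of_mem S.2 y.2) with e | e | ⟨r, hr, w, hw, hrw⟩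
    · simp [e]
    · rw [coe_mul, coe_mul, coe_inv, (hinv y y.2 e (hall y y.2) c c.2).eq, mul_inv_cancel_right]
      exact mem_zpowers _
    · rw [coe_mul, coe_mul, coe_inv]
      refine hG.conj_mem hrw.2 hw (hcent r w ?_ hrw c c.2)
      obtain ⟨i, rfl⟩ := mem_zpowers_iff.1 hr
      exact zpow_mem y.2 i
  intro x y
  by_contra hxy
  obtain ⟨p, q, hp, hq, hpq, hconj, hnc⟩ :=
    CfsgLib.Hamiltonian.exists_quaternion_pair hnorm (fun h => hxy (h.is_comm.comm x y))
  have hmk : ∀ z : (S : Subgroup G), orderOf z = 4 → Root (z : G) ((z : G) ^ 2) := fun z hz => by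
    refine ⟨(pow_two _).symm, ?_⟩
    apply Inv.of_orderOf
    rw [orderOf_pow, Subgroup.orderOf_coe, hz]
    norm_num
  exact hnc (Subtype.ext (hroots p q _ _ p.2 q.2 (hmk p hp) (hmk q hq)).eq)

end CfsgLib.NormCyclic
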