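import Cfsg.Agent.NormCyclic.Dihedral
import Cfsg.Agent.NormCyclic.Abelian

/-!
# The simple groups with `Hyp`

A nonabelian simple group of even order in which cyclic subgroups of even order share normalisers
with their nontrivial subgroups is `PSL(2, q)`.
-/

set_option autoImplicit false
set_option linter.style.haveILetI false
set_option linter.unusedSectionVars false

namespace CfsgLib.NormCyclic

open Subgroup

universe u

variable {G : Type u} [Group G] [Finite G]

theorem Hyp.simple_case (hG : Hyp G) [IsSimpleGroup G] (hna : ¬ IsMulCommutative G) {z : G}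
    (hz : Inv z) : ∃ (F : Type) (_ : Field F) (_ : Fintype F),
      Nonempty (G ≃* Matrix.ProjectiveSpecialLinearGroup (Fin 2) F) := by
  by_cases hN : NoLink G
  · by_cases hr : ∃ a t : G, Root a t
    · obtain ⟨a, t, ha⟩ := hr
      obtain ⟨F, iF, iFt, -, he⟩ := hG.dihedral_case hna hN ha
      exact ⟨F, iF, iFt, he⟩
    · push Not at hr
      obtain ⟨T⟩ := (inferInstance : Nonempty (Sylow 2 G))
      have hexp : ∀ x ∈ (T : Subgroup G), x * x = 1 := by
        intro x hx
        rcases twoElt_cases (twoElt_of_mem T.2 hx) with e | e | ⟨h, -, w, -, hw⟩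
        · rw [e, one_mul]
        · exact e.1
        · exact absurd hw (hr h w)
      haveI : IsMulCommutative (T : Subgroup G) := ⟨⟨fun x y => Subtype.ext (by
        have h := hexp _ (mul_mem x.2 y.2)
        show (x : G) * y = y * x
        calc (x : G) * y = ((x : G) * y)⁻¹ := eq_inv_of_mul_eq_one_left h
          _ = (y : G)⁻¹ * (x : G)⁻¹ := mul_inv_rev _ _
          _ = _ := by
            rw [inv_eq_of_mul_eq_one_right (hexp _ x.2), inv_eq_of_mul_eq_one_right (hexp _ y.2)])⟩⟩
      exact (hG.abelian_case hna T hz).2
  · exfalso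
    unfold NoLink at hN
    push Not at hN
    obtain ⟨a, b, t, s, ha, hb, has, hne⟩ := hN
    obtain ⟨S, -, hS⟩ := hG.abelian_of_linked hna ha hb hne has
    haveI := hS
    exact (hG.abelian_case hna S hz).1 a t ha

end CfsgLib.NormCyclic
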